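import Groth.Agent.JacVar.K531.Pow
import Groth.Agent.Flat2B.SmoothGeom
import Mathlib.AlgebraicGeometry.Geometrically.Integral

/-!
# Geometry of fibre powers of a smooth proper geometrically irreducible scheme over a field
-/

set_option autoImplicit false
universe u
open CategoryTheory CategoryTheory.Limits AlgebraicGeometry Opposite

namespace K531.PowGeom

open Groth.Agent.Fga.JacSum K531.Pow

variable {k : Type u} [Field k] {C : Scheme.{u}} (f : C ⟶ Spec (CommRingCat.of k))

/-- The `n`-fold power of a smooth, proper, geometrically irreducible scheme over a field. -/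
theorem exists_pow [IsProper f] [Smooth f] [GeometricallyIrreducible f] (n : ℕ) :
    ∃ (Z : Over (Spec (CommRingCat.of k))) (x : Fin n → Pt f Z), IsPow f Z x ∧ IsProper Z.hom ∧
      Smooth Z.hom ∧ GeometricallyIntegral Z.hom ∧ IsIntegral Z.left := by
  obtain ⟨Z, x, hW, hZ⟩ := Pow.exists_pow f n
  have h1 : IsProper Z.hom := hW @IsProper inferInstance (fun A a ha => by
    have : IsProper a := ha
    change IsProper (pullback.fst a f ≫ a)
    infer_instance)
  have h2 : Smooth Z.hom := hW @Smooth inferInstance (fun A a ha => by
    have : Smooth a := ha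
    change Smooth (pullback.fst a f ≫ a)
    infer_instance)
  have h3 : GeometricallyIrreducible Z.hom := by
    refine (hW (@GeometricallyIrreducible ⊓ @UniversallyOpen) ⟨?_, inferInstance⟩
      (fun A a ha => ?_)).1
    · rw [geometricallyIrreducible_iff]
      intro K _ y W fst snd hp
      have h1 : IsIso snd := MorphismProperty.of_isPullback
        (P := MorphismProperty.isomorphisms Scheme.{u}) hp (MorphismProperty.isomorphisms.infer_property _)
      have h2 : IrreducibleSpace (Spec (CommRingCat.of K)) := inferInstance
      exact snd.homeomorph.irreducibleSpace_iff.2 h2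
    · obtain ⟨ha1, ha2⟩ := ha
      exact ⟨GeometricallyIrreducible.comp _ _, inferInstance⟩
  have h4 : GeometricallyIntegral Z.hom := Groth.Agent.Flat2B.SmoothGeom.geometricallyIntegral_of_smooth Z.hom
  exact ⟨Z, x, hZ, h1, h2, h4, GeometricallyIntegral.isIntegral_of_subsingleton Z.hom⟩

end K531.PowGeom
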