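import Groth.Agent.JacVar.K531.Albanese
import Groth.Agent.JacVar.K531.PowGeom
import Groth.Agent.JacVar.K532.Base
import Groth.Agent.Picfga.GoodTwist
import Groth.Agent.Picfga.CurveP1
import Groth.Agent.S0034
import Groth.Agent.Etcore.DimBaseChange

/-!
# General position on a power of a curve

`f : C ⟶ Spec k` smooth proper geometrically connected curve over any field, `n = 1 - χ(O_C)`.
* `exists_good_points`: over an algebraically closed `K/k` there are `x_1, …, x_n` with
  `h⁰(O(∑ x_i)) = 1`, `h¹ = 0`.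
* `exists_open`: on the `n`-fold power `Z` there is a nonempty open `W` on which `h⁰(O(∑ x_i)) = 1`,
  `h¹ = 0` and the `x_i` are pairwise distinct.
-/

set_option autoImplicit false
set_option backward.isDefEq.respectTransparency false
universe u
open CategoryTheory CategoryTheory.Limits AlgebraicGeometry Opposite TopologicalSpace

namespace K531.GoodPt

open Groth.Agent
open Groth.Agent.Grpsch Groth.Agent.Grpsch.PicGrp Groth.Agent.Fga.RigGrp Groth.Agent.Fga.JacSum
open Groth.Agent.Fga Groth.Agent.Fga.JacAlg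
open Groth.Agent.Picfga Groth.Agent.Picfga.ChiDef Groth.Agent.Picfga.P1Def Groth.Agent.Picfga.PicGood
open K531.SumEq K531.Pow K531.Perm K531.Albanese K531.GoodHH Groth.Agent.Fdesc.LocGen

variable {k : Type u} [Field k] {C : Scheme.{u}} {f : C ⟶ Spec (CommRingCat.of k)}

section

variable {K : Type u} [Field K] (t : Spec (CommRingCat.of K) ⟶ Spec (CommRingCat.of k))

theorem isSmoothProperCurve_bc [IsProper f] [Smooth f] [GeometricallyConnected f]
    (hdim : topologicalKrullDim C = 1) :
    Curve.IsSmoothProperCurve K (PicF.XT f (Over.mk t)) (PicF.XTproj f (Over.mk t)) := by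
  have h1 : IsProper (PicF.XTproj f (Over.mk t)) := inferInstanceAs (IsProper (pullback.snd f t))
  have h2 : Smooth (PicF.XTproj f (Over.mk t)) := inferInstanceAs (Smooth (pullback.snd f t))
  have h3 : GeometricallyConnected (PicF.XTproj f (Over.mk t)) :=
    inferInstanceAs (GeometricallyConnected (pullback.snd f t))
  have h4 : topologicalKrullDim (PicF.XT f (Over.mk t)) = 1 := by
    rw [← hdim]
    exact Etcore.DimBaseChange.topologicalKrullDim_eq (Field.toIsField k)
      (Field.toIsField K) f _ _ _ (IsPullback.of_hasPullback f t)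
  exact K532.Base.isSmoothProperCurve (PicF.XTproj f (Over.mk t)) h4

end

/-- transport of the cohomology along the base change by the identity -/
theorem nonempty_equiv {K : Type u} [Field K] {Y : Scheme.{u}} (g : Y ⟶ Spec (CommRingCat.of K)) [IsProper g]
    (M : Y.Modules) (hM : PicF.IsInvertible M) (i : ℕ) :
    (letI : Y.Over (Spec (CommRingCat.of K)) := ⟨g⟩
     letI := overK g (𝟙 (Spec (CommRingCat.of K)))
     Nonempty (Coh.HH Y M i ≃ₗ[K] Coh.HH (PicF.XT g (Over.mk (𝟙 _)))
      ((Scheme.Modules.pullback (pullback.fst g (𝟙 _))).obj M) i)) := by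
  let _ : Y.Over (Spec (CommRingCat.of K)) := ⟨g⟩
  let _ := overK g (𝟙 (Spec (CommRingCat.of K)))
  have : CompactSpace Y := (quasiCompact_iff_compactSpace (f := g)).mp inferInstance
  have : QuasiSeparatedSpace Y := (quasiSeparated_iff_quasiSeparatedSpace (f := g)).mp inferInstance
  have hpb : IsPullback (pullback.fst g (𝟙 (Spec (CommRingCat.of K))))
      ((PicF.XT g (Over.mk (𝟙 (Spec (CommRingCat.of K))))) ↘ Spec (CommRingCat.of K))
      (Y ↘ Spec (CommRingCat.of K)) (Spec.map (CommRingCat.ofHom (algebraMap K K))) := by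
    have h1 : Spec.map (CommRingCat.ofHom (algebraMap K K)) = 𝟙 (Spec (CommRingCat.of K)) := by
      have : CommRingCat.ofHom (algebraMap K K) = 𝟙 _ := rfl
      rw [this, Spec.map_id]
    rw [h1]
    exact IsPullback.of_hasPullback g (𝟙 _)
  have := Ega2.QCohLocal.isQCoh_of_isInvertible hM
  obtain ⟨e⟩ := S0034.result K K Y (PicF.XT g (Over.mk (𝟙 (Spec (CommRingCat.of K)))))
    (pullback.fst g (𝟙 (Spec (CommRingCat.of K)))) hpb M i
  exact ⟨(TensorProduct.lid K _).symm.trans e⟩

/-- An invertible module with `h⁰ = 1`, `h¹ = 0` on a curve over a separably closed field. -/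
theorem exists_good_module [IsProper f] [Smooth f] [GeometricallyConnected f]
    (hdim : topologicalKrullDim C = 1) (P : P1Data f) {K : Type u} [Field K] [IsSepClosed K]
    (t : Spec (CommRingCat.of K) ⟶ Spec (CommRingCat.of k)) :
    ∃ (M : (PicF.XT f (Over.mk t)).Modules) (_ : PicF.IsInvertible M),
      H1van P (Over.mk t) M ∧ H0one f (Over.mk t) M := by
  have hXK := isSmoothProperCurve_bc (f := f) t hdim
  have hp : IsProper (PicF.XTproj f (Over.mk t)) := hXK.1
  obtain ⟨PK⟩ := CurveP1.exists_p1Data hXK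
  obtain ⟨ι, E, hE⟩ := GoodTwist.exists_good_twist hXK PK
  obtain ⟨i, hi⟩ := hE (Over.mk (𝟙 _)) K (Iso.refl _) 1
  obtain ⟨M, hM, hMc⟩ := exists_mk (E i)
  obtain ⟨h1, h0⟩ := hi ((Scheme.Modules.pullback (pullback.fst (PicF.XTproj f (Over.mk t)) (𝟙 _))).obj M)
    (isInvertible_pullback _ hM) (by rw [one_mul, hMc]; rfl)
  refine ⟨M, hM, ?_, ?_⟩
  · rw [h1van_iff P t M hM]
    have h1' := (h1van_iff PK (𝟙 _) _ (isInvertible_pullback _ hM)).mp h1
    obtain ⟨e⟩ := nonempty_equiv (PicF.XTproj f (Over.mk t)) M hM 1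
    exact @Equiv.subsingleton _ _ e.toEquiv h1'
  · rw [h0one_iff t M]
    rw [h0one_iff (𝟙 _) _] at h0
    obtain ⟨e⟩ := nonempty_equiv (PicF.XTproj f (Over.mk t)) M hM 0
    let _ := overK f t
    let _ := overK (PicF.XTproj f (Over.mk t)) (𝟙 (Spec (CommRingCat.of K)))
    exact e.finrank_eq.trans h0

variable [SmoothOfRelativeDimension 1 f]

/-- Points in general position over an algebraically closed field. -/
theorem exists_good_points [IsProper f] [Smooth f] [GeometricallyConnected f]
    (hdim : topologicalKrullDim C = 1) (P : P1Data f) {K : Type u} [Field K] [IsAlgClosed K]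
    (t : Spec (CommRingCat.of K) ⟶ Spec (CommRingCat.of k)) (n : ℕ) (hn : chiK f t 1 + n = 1) :
    ∃ x : Fin n → Pt f (Over.mk t), ∀ (M : (PicF.XT f (Over.mk t)).Modules) (hM : PicF.IsInvertible M),
      mk M hM = (∏ i, gcl f (x i))⁻¹ → H1van P (Over.mk t) M ∧ H0one f (Over.mk t) M := by
  obtain ⟨M, hM, h1, h0⟩ := exists_good_module hdim P t
  have hX : Curve.IsSmoothProperCurve k C f := K532.Base.isSmoothProperCurve f hdim
  have hGI : GeometricallyIntegral f := K532.Base.geometricallyIntegral f
  let _ := overK f t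
  have hchi : chiK f t (mk M hM) = 1 := by
    rw [chiK_mk, chiM]
    rw [h1van_iff P t M hM] at h1
    rw [h0one_iff t M] at h0
    have h2 : Module.finrank K (Coh.HH (PicF.XT f (Over.mk t)) M 1) = 0 :=
      Module.finrank_zero_of_subsingleton
    simp only [FGA.eulerCharLE, Finset.sum_range_succ, Finset.sum_range_zero, h2, h0]
    simp
  obtain ⟨s, hs⟩ := exists_section_ne_zero K (PicF.XT f (Over.mk t)) M (by
    have : chiM f t M = 1 := hchi
    rw [chiM] at this
    rw [this]; exact one_pos)
  obtain ⟨d, x, hx⟩ := Sga7.H780.JacSurjG.exists_divisor' hX K t M hM s hs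
  have h3 := chiK_mul_prod (JacRR.rrStep f hX K t) 1 x
  rw [one_mul, ← hx, hchi] at h3
  have hd : d = n := by omega
  subst hd
  refine ⟨x, fun N hN hNc => ?_⟩
  rw [Finset.prod_inv_distrib] at hx
  obtain ⟨e⟩ := (mk_eq_iff hM hN).mp (hx.trans hNc.symm)
  exact ⟨h1van_of_iso P e h1, h0one_of_iso f e h0⟩

/-- General position on the `n`-fold power. -/
theorem exists_open [IsProper f] [Smooth f] [GeometricallyConnected f]
    (hdim : topologicalKrullDim C = 1) (P : P1Data f)
    (σ : Spec (CommRingCat.of k) ⟶ C) (hσ : σ ≫ f = 𝟙 _) (n : ℕ)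
    (hn : ∀ (K : Type u) [Field K] (t : Spec (CommRingCat.of K) ⟶ Spec (CommRingCat.of k)),
      chiK f t 1 + n = 1) {Z : Over (Spec (CommRingCat.of k))} {x : Fin n → Pt f Z} (hZ : IsPow f Z x)
    [IsIntegral Z.left] :
    ∃ W : Z.left.Opens, (W : Set Z.left).Nonempty ∧ (∀ z ∈ W, GoodCl P Z (∏ i, gcl f (x i))⁻¹ z) ∧
      ∀ z ∈ W, Dist f x z := by
  -- the good locus is nonempty
  have hgood : ∃ z : Z.left, GoodCl P Z (∏ i, gcl f (x i))⁻¹ z := by
    let K := AlgebraicClosure k
    let t : Spec (CommRingCat.of K) ⟶ Spec (CommRingCat.of k) :=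
      Spec.map (CommRingCat.ofHom (algebraMap k K))
    obtain ⟨y, hy⟩ := exists_good_points hdim P t n (hn K t)
    obtain ⟨g, hg, -⟩ := hZ (Over.mk t) y
    let τ : (Over.mk t).left := (default : PrimeSpectrum K)
    obtain ⟨N, hN, hNc⟩ := exists_mk (∏ i, gcl f (x i))⁻¹
    refine ⟨g.left τ, ?_⟩
    rw [hNc, goodCl_mk_iff, good_iff_point P N hN (K := K) (Over.mk t) (Iso.refl _) g τ]
    refine hy _ (isInvertible_pullback _ hN) ?_
    have h1 : pull (PicF.XTmap f g) (mk N hN) = (∏ i, gcl f (y i))⁻¹ := by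
      rw [← hNc, map_inv, map_prod]
      congr 1
      exact Finset.prod_congr rfl fun i _ => by rw [pull_gcl, hg i]
    exact h1
  have hdist : Dist f x (genericPoint Z.left) := by
    intro i j hij
    by_contra hne
    have h1 : genericPoint Z.left ∈ (coinc f (x i) (x j)).support :=
      (mem_support_coinc_iff f (x i) (x j) _).mpr hij
    have h2 : (coinc f (x i) (x j)).support = ⊤ := by
      rw [eq_top_iff]
      intro z _
      have h3 := (genericPoint_spec Z.left).specializes (Set.mem_univ z)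
      exact h3.mem_closed (coinc f (x i) (x j)).support.isClosed h1
    rw [Scheme.IdealSheafData.support_eq_top_iff] at h2
    have h3 : (x i) = (x j) := by
      apply Subtype.ext
      have h4 := (comap_coinc_eq_bot_iff f (x i) (x j) (𝟙 _)).mp (by
        rw [h2, Scheme.IdealSheafData.comap_bot])
      simpa using h4
    -- then the identity of the curve is constant
    obtain ⟨g, hg, -⟩ := hZ (Over.mk f) (fun l => if l = i then Sga7.H732.Abel.idPt else Pt.ofSection hσ _)
    have h4 : Sga7.H732.Abel.idPt (f := f) = Pt.ofSection hσ (Over.mk f) := by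
      have h5 := hg i
      have h6 := hg j
      rw [← h3, h5, if_pos rfl, if_neg (Ne.symm hne)] at h6
      exact h6
    have h5 : f ≫ σ = 𝟙 C := (congrArg Subtype.val h4).symm
    have h6 : IsIso f := ⟨σ, h5, hσ⟩
    have h7 : topologicalKrullDim C = topologicalKrullDim (Spec (CommRingCat.of k)) :=
      IsHomeomorph.topologicalKrullDim_eq _ f.homeomorph.isHomeomorph
    rw [hdim] at h7
    have h8 : topologicalKrullDim (Spec (CommRingCat.of k)) = 0 := by
      change topologicalKrullDim (PrimeSpectrum k) = 0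
      rw [PrimeSpectrum.topologicalKrullDim_eq_ringKrullDim]
      exact ringKrullDim_eq_zero_of_field k
    rw [h8] at h7
    exact one_ne_zero h7
  refine ⟨⟨_, isOpen_goodCl P Z (∏ i, gcl f (x i))⁻¹⟩ ⊓ ⟨_, isOpen_dist f x⟩,
    ⟨genericPoint Z.left, ?_, hdist⟩, fun z hz => hz.1, fun z hz => hz.2⟩
  obtain ⟨z, hz⟩ := hgood
  exact (genericPoint_spec Z.left).mem_open_set_iff (isOpen_goodCl P Z (∏ i, gcl f (x i))⁻¹) |>.mpr
    (by simpa using ⟨z, hz⟩)

end K531.GoodPt
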