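import Groth.Agent.JacVar.K533.TwoPt
import Groth.Agent.JacVar.K533.CurveBasic
import Groth.Agent.Etcore.CurveTop
import Groth.Agent.Sga7.H270.FinPts

/-!
# Adding a rational point to an invertible module: the change of `h¹`

For a smooth proper curve `X` over `k` with `H⁰(X, O) = k` and a class `c`:
* `h1_cases`: `h¹(c(P)) = h¹(c)` or `h¹(c(P)) + 1 = h¹(c)`;
* `exists_open_h1`: if `h¹(c) > 0` there is a nonempty open `U` such that the second case happens exactly for `P` in `U`.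
-/

set_option autoImplicit false
universe u
open CategoryTheory CategoryTheory.Limits AlgebraicGeometry Opposite TopologicalSpace

namespace K531.H1Drop

open Groth.Agent Groth.Agent.Grpsch.PicGrp Groth.Agent.Fga.JacFactor
open K532.CurvePic K533.PtTwist K533.TwoPt

variable {k : Type u} [Field k] {X : Scheme.{u}} [X.Over (Spec (CommRingCat.of k))]

/-- A smooth proper geometrically connected curve. -/
theorem isCurve_of (k : Type u) [Field k] (X : Scheme.{u}) [X.Over (Spec (CommRingCat.of k))]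
    [IsProper (X ↘ (Spec (CommRingCat.of k)))] [Smooth (X ↘ (Spec (CommRingCat.of k)))]
    [GeometricallyConnected (X ↘ (Spec (CommRingCat.of k)))] (hdim : topologicalKrullDim X = 1) :
    IsCurve k X :=
  ⟨K533.CurveBasic.isSmoothProperCurve (X ↘ (Spec (CommRingCat.of k))) hdim, K533.CurveBasic.h0_one k X⟩

variable (hX : IsCurve k X)

/-- Rational points with the same image are equal. -/
theorem eq_of_pt_eq (P Q : Spec (CommRingCat.of k) ⟶ X)
    (hP : P ≫ (X ↘ (Spec (CommRingCat.of k))) = 𝟙 _) (hQ : Q ≫ (X ↘ (Spec (CommRingCat.of k))) = 𝟙 _)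
    (h : pt P = pt Q) : P = Q :=
  Sga7.H270.FinPts.section_ext (X ↘ (Spec (CommRingCat.of k))) P Q hP hQ h

theorem apply_eq_pt (P : Spec (CommRingCat.of k) ⟶ X) (p : Spec (CommRingCat.of k)) : P p = pt P := by
  have e : p = IsLocalRing.closedPoint k :=
    Subsingleton.elim (α := PrimeSpectrum k) _ _
  rw [e]
  rfl

/-- Adding a rational point changes `h¹` by zero or one. -/
theorem h1_cases (c : Pic X) (P : Spec (CommRingCat.of k) ⟶ X)
    (hP : P ≫ (X ↘ (Spec (CommRingCat.of k))) = 𝟙 _) :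
    h k X 1 (c * (io hX P hP)⁻¹) = h k X 1 c ∨ h k X 1 (c * (io hX P hP)⁻¹) + 1 = h k X 1 c := by
  have h1 := rr hX c
  have h2 := rr hX (c * (io hX P hP)⁻¹)
  rw [deg_mul hX, deg_inv hX, deg_io hX] at h2
  have h3 := h0_le_mul hX c _ (h0_io_inv hX P hP)
  have h4 := h1_mul_le hX c _ (h0_io_inv hX P hP)
  omega

/-- Adding a rational point changes `h⁰` by zero or one. -/
theorem h0_add (c : Pic X) (P : Spec (CommRingCat.of k) ⟶ X)
    (hP : P ≫ (X ↘ (Spec (CommRingCat.of k))) = 𝟙 _) :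
    h k X 0 (c * (io hX P hP)⁻¹) + h k X 1 c = h k X 0 c + h k X 1 (c * (io hX P hP)⁻¹) + 1 := by
  have h1 := rr hX c
  have h2 := rr hX (c * (io hX P hP)⁻¹)
  rw [deg_mul hX, deg_inv hX, deg_io hX] at h2
  omega

/-- A general rational point makes `h¹` drop. -/
theorem exists_open_gen (c : Pic X) (hc : 0 < h k X 1 c) :
    ∃ U : X.Opens, (U : Set X).Nonempty ∧ ∀ (P : Spec (CommRingCat.of k) ⟶ X)
      (hP : P ≫ (X ↘ (Spec (CommRingCat.of k))) = 𝟙 _), pt P ∈ U →
        h k X 1 (c * (io hX P hP)⁻¹) + 1 = h k X 1 c := by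
  have := hX.integral
  rw [serre hX c] at hc
  obtain ⟨M, hM, hMc⟩ := exists_mk (om hX * c⁻¹)
  rw [hMc] at hc
  obtain ⟨s, hs⟩ := exists_hom_ne_zero hX hM hc
  refine ⟨CohB1.genLocus M s, Old.H24.SecondSection.genLocus_nonempty hM s hs, ?_⟩
  intro P hP hPU
  have h1 := (h0_drop_of_mem hX hM s P hP hPU).1
  rw [serre hX c, serre hX (c * (io hX P hP)⁻¹), mul_inv_rev, inv_inv, mul_comm (io hX P hP), ← mul_assoc,
    hMc]
  exact h1

/-- The exact locus where adding a rational point makes `h¹` drop is open. -/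
theorem exists_open_h1 (c : Pic X) (hc : 0 < h k X 1 c) :
    ∃ U : X.Opens, (U : Set X).Nonempty ∧ ∀ (P : Spec (CommRingCat.of k) ⟶ X)
      (hP : P ≫ (X ↘ (Spec (CommRingCat.of k))) = 𝟙 _),
        (pt P ∈ U → h k X 1 (c * (io hX P hP)⁻¹) + 1 = h k X 1 c) ∧
        (pt P ∉ U → h k X 1 (c * (io hX P hP)⁻¹) = h k X 1 c) := by
  have := hX.integral
  have := hX.noeth
  obtain ⟨U₀, hU₀, hdrop⟩ := exists_open_gen hX c hc
  have hcof := Etcore.CurveTop.compl_finite X hX.dim.le U₀ (by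
    intro C hC
    have h1 : C = Set.univ := by
      rw [irreducibleComponents_eq_singleton] at hC
      exact hC
    rw [h1, Set.inter_univ]
    exact hU₀)
  let F : Set X := {p | ∃ (P : Spec (CommRingCat.of k) ⟶ X) (hP : P ≫ (X ↘ (Spec (CommRingCat.of k))) = 𝟙 _),
    pt P = p ∧ h k X 1 (c * (io hX P hP)⁻¹) = h k X 1 c}
  have hF : F ⊆ (U₀ : Set X)ᶜ := by
    rintro p ⟨P, hP, rfl, h1⟩ hp
    have := hdrop P hP hp
    omega
  have hFc : IsClosed F := by
    rw [← Set.biUnion_of_singleton F]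
    exact Set.Finite.isClosed_biUnion (hcof.1.subset hF) fun p hp => hcof.2 p (hF hp)
  refine ⟨⟨Fᶜ, hFc.isOpen_compl⟩, hU₀.mono (fun p hp hpF => hF hpF hp), ?_⟩
  intro P hP
  refine ⟨fun h1 => ?_, fun h1 => ?_⟩
  · rcases h1_cases hX c P hP with h2 | h2
    · exact absurd ⟨P, hP, rfl, h2⟩ h1
    · exact h2
  · obtain ⟨Q, hQ, hQP, h2⟩ : pt P ∈ F := by
      by_contra h3
      exact h1 h3
    obtain rfl := eq_of_pt_eq Q P hQ hP hQP
    exact h2

end K531.H1Drop
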