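import Groth.Agent.JacVar.K531.WrIncl
import Groth.Agent.JacVar.K531.GoodPt
import Groth.Agent.JacVar.K531.H1Drop
import Groth.Agent.JacVar.K533.AbelAt
import Groth.Agent.Sga7.H780.JacSurjG

/-!
# The theta locus is a translate of `W^{g-1}`

`thetaLocus_eq`: for `N` invertible of degree `g - 1` on `C` and `kcl ν = [N]⁻¹ O((g-1)σ)`, the theta locus of `N` is the
translate of `W^{g-1}` by `ν`.
-/

set_option autoImplicit false
set_option linter.unusedSectionVars false
universe u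
open CategoryTheory CategoryTheory.Limits AlgebraicGeometry MonoidalCategory CartesianMonoidalCategory
open scoped MonObj

namespace K531.ThetaLoc

open Groth.Agent Groth.Agent.Grpsch.PicGrp Groth.Agent.Fga.RigGrp Groth.Agent.Sga7.H732.Hedge
open Groth.Agent.Sga7.H732 K532.UnitBase K532.CurvePic K532.CurvePts K532.Dict Groth.Agent.Fga.JacSum
open Groth.Agent.Fga.JacFactor K532.Setup K532.KPts K532.Wr K532.MultPts K532.Theta1 K532
open Groth.Agent.Fdesc.LocGen Groth.Agent.Picfga.ChiDef Groth.Agent.Fga Groth.Agent.Fga.JacSurj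

section gen

variable {k : Type u} [Field k] {C : Scheme.{u}} [C.Over (Spec (CommRingCat.of k))]

theorem chiAt_eq_chiK [IsProper (C ↘ Spec (CommRingCat.of k))] {K : Type u} [Field K]
    (t : Spec (CommRingCat.of K) ⟶ Spec (CommRingCat.of k)) (τ : (Over.mk t).left)
    (c : Pic (PicF.XT (C ↘ Spec (CommRingCat.of k)) (Over.mk t))) :
    chiAt (C ↘ Spec (CommRingCat.of k)) (Over.mk t) τ c = chiK (C ↘ Spec (CommRingCat.of k)) t c := by
  have h3 := chiPt_eq_chiAt (JacFib.bcStep (C ↘ Spec (CommRingCat.of k))) (Over.mk t) (𝟙 (Spec (CommRingCat.of K))) τ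
    (fun z => Subsingleton.elim (α := PrimeSpectrum K) _ _) c
  refine h3.symm.trans ?_
  rw [chiPt]
  have h4 := chiK_congr (Category.id_comp t) (ofHom (Over.mk t) (𝟙 (Spec (CommRingCat.of K)))) (𝟙 _) rfl c
  refine h4.trans ?_
  rw [Fga.RigGrp.XTmap_id, pull_id]

theorem isCurve_XT [IsProper (C ↘ Spec (CommRingCat.of k))] [Smooth (C ↘ Spec (CommRingCat.of k))]
    [GeometricallyConnected (C ↘ Spec (CommRingCat.of k))] (hdim : topologicalKrullDim C = 1) {K : Type u} [Field K]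
    (t : Spec (CommRingCat.of K) ⟶ Spec (CommRingCat.of k)) :
    letI := overK (C ↘ Spec (CommRingCat.of k)) t
    IsCurve K (PicF.XT (C ↘ Spec (CommRingCat.of k)) (Over.mk t)) := by
  let _ := overK (C ↘ Spec (CommRingCat.of k)) t
  have h1 : IsProper (PicF.XT (C ↘ Spec (CommRingCat.of k)) (Over.mk t) ↘ Spec (CommRingCat.of K)) :=
    inferInstanceAs (IsProper (pullback.snd (C ↘ Spec (CommRingCat.of k)) t))
  have h2 : Smooth (PicF.XT (C ↘ Spec (CommRingCat.of k)) (Over.mk t) ↘ Spec (CommRingCat.of K)) :=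
    inferInstanceAs (Smooth (pullback.snd (C ↘ Spec (CommRingCat.of k)) t))
  have h3 : GeometricallyConnected (PicF.XT (C ↘ Spec (CommRingCat.of k)) (Over.mk t) ↘ Spec (CommRingCat.of K)) :=
    inferInstanceAs (GeometricallyConnected (pullback.snd (C ↘ Spec (CommRingCat.of k)) t))
  exact H1Drop.isCurve_of K _ (GoodPt.isSmoothProperCurve_bc t hdim).2.2.2

/-- The degree of the pullback of a class on `C` to `C_K`. -/
theorem chiK_pull_fst [IsProper (C ↘ Spec (CommRingCat.of k))] {K : Type u} [Field K]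
    (t : Spec (CommRingCat.of K) ⟶ Spec (CommRingCat.of k)) (c : Pic C) :
    chiK (C ↘ Spec (CommRingCat.of k)) t (pull (pullback.fst (C ↘ Spec (CommRingCat.of k)) t) c) -
      chiK (C ↘ Spec (CommRingCat.of k)) t 1 = deg k C c := by
  let _ := overK (C ↘ Spec (CommRingCat.of k)) t
  have : CompactSpace C := (quasiCompact_iff_compactSpace (f := C ↘ Spec (CommRingCat.of k))).mp inferInstance
  have : QuasiSeparatedSpace C :=
    quasiSeparatedSpace_of_quasiSeparated (C ↘ Spec (CommRingCat.of k))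
  have h1 := Etcore.DegZero.dg_pull k C K (PicF.XT (C ↘ Spec (CommRingCat.of k)) (Over.mk t))
    (pullback.fst (C ↘ Spec (CommRingCat.of k)) t) t (IsPullback.of_hasPullback _ _) c
  obtain ⟨L, hL, rfl⟩ := exists_mk c
  exact h1

end gen

section curve

variable {k : Type u} [Field k] [IsAlgClosed k] {C : Scheme.{u}} [C.Over (Spec (CommRingCat.of k))]
  [IsProper (C ↘ Spec (CommRingCat.of k))] [Smooth (C ↘ Spec (CommRingCat.of k))]
  [GeometricallyConnected (C ↘ Spec (CommRingCat.of k))]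
  [SmoothOfRelativeDimension 1 (C ↘ Spec (CommRingCat.of k))] (hX : IsCurve k C)
  {hdim : topologicalKrullDim C = 1}
  {σ : Spec (CommRingCat.of k) ⟶ C} {hσ : σ ≫ (C ↘ Spec (CommRingCat.of k)) = 𝟙 (Spec (CommRingCat.of k))}
  {J : Over (Spec (CommRingCat.of k))} [GrpObj J] [IsProper J.hom] {ψ : (ModFun.PicDeg (C ↘ Spec (CommRingCat.of k)) 0).Hom ⊤ J}
  {ξ : Pic (PicF.XT (C ↘ Spec (CommRingCat.of k)) J)}
  (h : IsJac (C ↘ Spec (CommRingCat.of k)) σ hσ J ξ)
  (hψ : Compat (C ↘ Spec (CommRingCat.of k)) hdim σ hσ J ψ ξ)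
  {j : Over.mk (C ↘ Spec (CommRingCat.of k)) ⟶ J} (hj : IsAbel h j)

/-- The class of a constant point. -/
theorem cls_const (T : Over (Spec (CommRingCat.of k))) (ν : 𝟙_ (Over (Spec (CommRingCat.of k))) ⟶ J) :
    Abel.cls h T (toUnit T ≫ ν) = pull (pullback.fst (C ↘ Spec (CommRingCat.of k)) T.hom) (kcl h ν) := by
  have h1 : Abel.cls h (𝟙_ _) ν = pull (pullback.fst (C ↘ Spec (CommRingCat.of k)) (𝟙_ (Over (Spec (CommRingCat.of k)))).hom)
      (kcl h ν) := ((uiPic (C ↘ Spec (CommRingCat.of k))).symm_apply_apply (Abel.cls h (𝟙_ _) ν)).symm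
  rw [Abel.cls_comp, h1, ← pull_comp, Fga.RigGrp.XTmap_fst]

include hX hψ hj in
theorem jumpLocus_subset {N : C.Modules} (hN : PicF.IsInvertible N)
    (hdeg : deg k C (mk N hN) = (gen k C : ℤ) - 1)
    {ν : 𝟙_ (Over (Spec (CommRingCat.of k))) ⟶ J}
    (hν : kcl h ν = (mk N hN)⁻¹ * (pcl hX (sg hσ))⁻¹ ^ (gen k C - 1)) :
    Jac.jumpLocus (C ↘ Spec (CommRingCat.of k)) 0 ψ N ⊆
      (Jac.transl J ν).left.base '' W j (gen k C - 1) := by
  rintro m ⟨Ω, _, _, t, hP, L, hL, hns, p, rfl⟩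
  let f := C ↘ Spec (CommRingCat.of k)
  let _ := overK f t
  have hXΩ := isCurve_XT (C := C) hdim t
  obtain ⟨hLi, hchi⟩ := (Fine.ok_iff f hdim 0 (Over.mk t) L).1 hL
  have hLc : chiK f t (mk L hLi) = chiK f t 1 := by
    have := hchi (IsLocalRing.closedPoint Ω)
    rw [chiAt_eq_chiK, chiAt_eq_chiK, add_zero] at this
    exact this
  have hNΩ : PicF.IsInvertible ((Scheme.Modules.pullback (pullback.fst f t)).obj N) := isInvertible_pullback _ hN
  have hM := isInvertible_tensorMod hLi hNΩ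
  have hMc : mk _ hM = mk L hLi * pull (pullback.fst f (Over.mk t).hom) (mk N hN) := by
    rw [pull_mk]
    exact (mk_mul_mk hLi hNΩ).symm
  -- a nonzero section
  obtain ⟨s, hs⟩ : ∃ s : Γ(CohB1.tensorMod L ((Scheme.Modules.pullback (pullback.fst f t)).obj N), ⊤), s ≠ 0 := by
    rw [not_subsingleton_iff_nontrivial] at hns
    obtain ⟨x, hx⟩ := exists_ne (0 : Coh.HH (PicF.XT f (Over.mk t))
      (CohB1.tensorMod L ((Scheme.Modules.pullback (pullback.fst f t)).obj N)) 0)
    refine ⟨(Picfga.ChiCech.toSecA (A := Ω)).symm (Picfga.ChiCech.h0Top Ω _ x), ?_⟩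
    intro h4
    apply hx
    rw [← (Picfga.ChiCech.h0Top Ω _).map_eq_zero_iff]
    exact h4
  have hGI := K532.Base.geometricallyIntegral f
  obtain ⟨d, x, hx⟩ := Sga7.H780.JacSurjG.exists_divisor' hX.curve Ω t _ hM s hs
  have h3 := JacAlg.chiK_mul_prod (JacRR.rrStep f hX.curve Ω t) 1 x
  rw [one_mul, ← hx] at h3
  -- the degree
  have hdg : chiK f t (mk _ hM) - chiK f t 1 = (gen k C : ℤ) - 1 := by
    have e1 : ∀ c : Pic (PicF.XT f (Over.mk t)), deg Ω (PicF.XT f (Over.mk t)) c = chiK f t c - chiK f t 1 := by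
      intro c
      obtain ⟨L, hL, rfl⟩ := exists_mk c
      rfl
    rw [← e1, hMc, deg_mul hXΩ, e1, e1, hLc, sub_self, zero_add, ← hdeg]
    exact chiK_pull_fst t (mk N hN)
  obtain rfl : d = gen k C - 1 := by omega
  -- the two points of `J` agree
  have hcl : Abel.cls h (Over.mk t) (ψ.app (Over.mk t) L hP hL) = mk L hLi := by
    rw [Abel.cls_apply, hψ, Fine.norm_field]
    rfl
  have hq : gcl f (Pt.ofSection hσ (Over.mk t)) = pull (pullback.fst f (Over.mk t).hom) (pcl hX (sg hσ)) := by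
    rw [K533.AbelAt.gcl_ofSection f hσ (K533.AbelAt.isInvertible_ker f hσ) (Over.mk t)]
    rfl
  have heq : ψ.app (Over.mk t) L hP hL = (tup (fun i => Abel.ptHom (x i)) ≫ sm j (gen k C - 1)) ≫ Jac.transl J ν := by
    apply Abel.cls_injective h (Over.mk t)
    rw [hcl, comp_transl, map_mul, cls_const, tup_sm, map_list_prod, List.map_ofFn, List.prod_ofFn]
    have h5 : ∀ i, (⇑(Abel.cls h (Over.mk t)) ∘ fun i => Abel.ptHom (x i) ≫ j) i =
        (gcl f (x i))⁻¹ * pull (pullback.fst f (Over.mk t).hom) (pcl hX (sg hσ)) := by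
      intro i
      change Abel.cls h (Over.mk t) (Abel.ptHom (x i) ≫ j) = _
      rw [hj, JacAlg.acl_field, hq]
    rw [Finset.prod_congr rfl fun i _ => h5 i, Finset.prod_mul_distrib, Finset.prod_const, Finset.card_univ, Fintype.card_fin,
      ← hx, hMc, hν, map_mul, map_inv, map_pow, map_inv]
    change mk L hLi = mk L hLi * pull (pullback.fst f (Over.mk t).hom) (mk N hN) * pull (pullback.fst f (Over.mk t).hom) (pcl hX (sg hσ)) ^ (gen k C - 1) *
      ((pull (pullback.fst f (Over.mk t).hom) (mk N hN))⁻¹ * (pull (pullback.fst f (Over.mk t).hom) (pcl hX (sg hσ)))⁻¹ ^ (gen k C - 1))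
    cgroup
  refine ⟨(sm j (gen k C - 1)).left ((tup (fun i => Abel.ptHom (x i))).left p), ⟨_, rfl⟩, ?_⟩
  dsimp only
  rw [heq]
  exact ((Scheme.Hom.comp_apply ((tup fun i => Abel.ptHom (x i)) ≫ sm j (gen k C - 1)).left (Jac.transl J ν).left p).trans
    (congrArg (Jac.transl J ν).left (Scheme.Hom.comp_apply (tup fun i => Abel.ptHom (x i)).left
      (sm j (gen k C - 1)).left p))).symm

include hX hψ in
theorem mem_jumpLocus {N : C.Modules} (hN : PicF.IsInvertible N)
    (a : 𝟙_ (Over (Spec (CommRingCat.of k))) ⟶ J) (ha : 0 < CurvePic.h k C 0 (kcl h a * mk N hN)) :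
    pa a ∈ Jac.jumpLocus (C ↘ Spec (CommRingCat.of k)) 0 ψ N := by
  let f := C ↘ Spec (CommRingCat.of k)
  obtain ⟨L, hL, hLc⟩ := Fine.exists_family hdim (Abel.cls h (𝟙_ (Over (Spec (CommRingCat.of k)))) a)
    (Abel.deg_pull _ _ h.deg)
  have heq : ψ.app (𝟙_ (Over (Spec (CommRingCat.of k)))) L trivial hL = a := by
    apply Abel.cls_injective h
    rw [Abel.cls_apply, hψ, hLc, Abel.cls_apply, norm_of_mem _ _ _ (pull_mem _ h.mem)]
  refine ⟨k, inferInstance, inferInstance, 𝟙 _, trivial, L, hL, ?_, ?_⟩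
  · obtain ⟨hLi, -⟩ := (Fine.ok_iff f hdim 0 _ L).1 hL
    obtain ⟨M', hM', hMc'⟩ := exists_mk (kcl h a * mk N hN)
    have hNk : PicF.IsInvertible ((Scheme.Modules.pullback (pullback.fst f (𝟙 (Spec (CommRingCat.of k))))).obj N) :=
      isInvertible_pullback _ hN
    have hM := isInvertible_tensorMod hLi hNk
    have h1 : mk (CohB1.tensorMod L ((Scheme.Modules.pullback (pullback.fst f (𝟙 (Spec (CommRingCat.of k))))).obj N)) hM =
        mk ((Scheme.Modules.pullback (pullback.fst f (𝟙 (Spec (CommRingCat.of k))))).obj M') (isInvertible_pullback _ hM') := by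
      have h2 : mk L hLi = pull (pullback.fst f (𝟙_ (Over (Spec (CommRingCat.of k)))).hom) (kcl h a) := by
        have h3 : mk L hLi = Abel.cls h (𝟙_ (Over (Spec (CommRingCat.of k)))) a := hLc
        rw [h3]
        exact ((uiPic f).symm_apply_apply (Abel.cls h (𝟙_ _) a)).symm
      refine (mk_mul_mk hLi hNk).symm.trans ?_
      refine Eq.trans ?_ (congrArg (pull (pullback.fst f (𝟙_ (Over (Spec (CommRingCat.of k)))).hom)) hMc')
      rw [map_mul, ← h2]
      rfl
    obtain ⟨e⟩ := (mk_eq_iff _ _).1 h1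
    obtain ⟨e0⟩ := GoodPt.nonempty_equiv f M' hM' 0
    rw [hMc', h_mk] at ha
    have h4 : Nontrivial (Coh.HH C M' 0) := Module.nontrivial_of_finrank_pos ha
    rw [not_subsingleton_iff_nontrivial]
    have h5 : Nontrivial (Coh.HH (PicF.XT f (Over.mk (𝟙 (Spec (CommRingCat.of k)))))
        ((Scheme.Modules.pullback (pullback.fst f (𝟙 _))).obj M') 0) := e0.toEquiv.symm.nontrivial
    exact (CurvesA.HHMap.equivOver k (X := PicF.XT f (Over.mk (𝟙 (Spec (CommRingCat.of k))))) e 0).toEquiv.nontrivial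
  · refine ⟨IsLocalRing.closedPoint k, ?_⟩
    exact congrArg (fun z : 𝟙_ (Over (Spec (CommRingCat.of k))) ⟶ J => z.left (IsLocalRing.closedPoint k)) heq

include hX hψ hj in
/-- The theta locus is a translate of `W^{g-1}`. -/
theorem thetaLocus_eq {N : C.Modules} (hN : PicF.IsInvertible N)
    (hdeg : deg k C (mk N hN) = (gen k C : ℤ) - 1)
    {ν : 𝟙_ (Over (Spec (CommRingCat.of k))) ⟶ J}
    (hν : kcl h ν = (mk N hN)⁻¹ * (pcl hX (sg hσ))⁻¹ ^ (gen k C - 1)) :
    Jac.thetaLocus (C ↘ Spec (CommRingCat.of k)) 0 ψ N =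
      (Jac.transl J ν).left.base '' W j (gen k C - 1) := by
  have hW := isClosed_transl ν (isClosed_W j (gen k C - 1))
  apply Set.Subset.antisymm
  · exact closure_minimal (jumpLocus_subset hX h hψ hj hN hdeg hν) hW
  · refine closed_subset hW isClosed_closure fun a ha => subset_closure (mem_jumpLocus hX h hψ hN a ?_)
    rw [pa_transl, mem_W_iff_h0 hX h hj, map_mul, map_inv, hν] at ha
    have h1 : kcl h a * ((mk N hN)⁻¹ * (pcl hX (sg hσ))⁻¹ ^ (gen k C - 1))⁻¹ * (pcl hX (sg hσ))⁻¹ ^ (gen k C - 1) =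
        kcl h a * mk N hN := by cgroup
    rwa [h1] at ha

include hX hψ hj in
theorem exists_thetaLocus_eq {N : C.Modules} (hN : PicF.IsInvertible N)
    (hdeg : deg k C (mk N hN) = (gen k C : ℤ) - 1) (hg : 1 ≤ gen k C) :
    ∃ ν : 𝟙_ (Over (Spec (CommRingCat.of k))) ⟶ J,
      Jac.thetaLocus (C ↘ Spec (CommRingCat.of k)) 0 ψ N = (Jac.transl J ν).left.base '' W j (gen k C - 1) := by
  obtain ⟨ν, hν⟩ := exists_kcl hX h (c := (mk N hN)⁻¹ * (pcl hX (sg hσ))⁻¹ ^ (gen k C - 1)) (by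
    rw [deg_mul hX, deg_inv hX, deg_pow hX, deg_inv hX, deg_pcl, hdeg]
    push_cast [Nat.cast_sub hg]
    ring)
  exact ⟨ν, thetaLocus_eq hX h hψ hj hN hdeg hν⟩

end curve

end K531.ThetaLoc
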