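import Groth.Agent.Fga.ZeroClass
import Groth.Agent.Picfga.RepA

/-!
# The divisor of `n` points of a relative curve, and its rigidity in a linear system

`f : X ⟶ Spec k` smooth of relative dimension one and separated.

* `sdiv f x`: the ideal sheaf `∏ I_{x_i}` on `X_T` of `n` points `x_i ∈ X(T)`; `isEff_sdiv`,
  `dcl_sdiv`, `comap_sdiv`.
* `exists_sdiv_eq`: if `O(∑ x_i)` and `O(∑ y_i)` differ by the pullback of a class on `T` and
  `O(∑ x_i)` has `h⁰ = 1`, `h¹ = 0` at `t ∈ T`, then the two divisors coincide near `t`.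
-/

set_option autoImplicit false
set_option backward.isDefEq.respectTransparency false
universe u
open CategoryTheory CategoryTheory.Limits AlgebraicGeometry Opposite TopologicalSpace

namespace K531.DivEq

open Groth.Agent
open Groth.Agent.Grpsch Groth.Agent.Grpsch.PicGrp Groth.Agent.Fga.RigGrp Groth.Agent.Fga.JacSum
open Groth.Agent.Fga.JacFactor Groth.Agent.Fga.ZeroClass
open Groth.Agent.Picfga Groth.Agent.Picfga.ZeroDef Groth.Agent.Fdesc.LocGen
open Groth.Agent.Picfga.ZeroDiv Groth.Agent.Picfga.P1Def Groth.Agent.Picfga.PicGood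
open Groth.Agent.Picfga.PicCBC Groth.Agent.Picfga.SecGraph

section general

variable {Y : Scheme.{u}}

/-- A section whose zero scheme is an effective Cartier divisor does not vanish. -/
theorem ne_zero_of_isEff [hne : Nonempty Y] {M : Y.Modules} (hM : PicF.IsInvertible M) {s : Γ(M, ⊤)}
    {I : Y.IdealSheafData} (hI : IsZeroIdeal M s I) (hE : BlowUp.IsEffCartierIdeal I) : s ≠ 0 := by
  rintro rfl
  obtain ⟨y⟩ := hne
  obtain ⟨U, e, hyU, -, he⟩ := exists_affine_gen hM y ⊤ trivial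
  obtain ⟨V, hV, a, hyV, hVU, ha, haI⟩ := exists_affine_eqn hE y U.1 hyU
  have h1 := hI ⟨V, hV⟩ (res M hVU e) (he.res hVU) 0 (by rw [map_zero, zero_smul])
  rw [haI, Set.singleton_zero, Ideal.span_zero, Ideal.span_singleton_eq_bot] at h1
  have h2 : (1 : Γ(Y, V)) = 0 := ha.cancel_self (by rw [h1, zero_mul, zero_mul])
  have : Nonempty V := ⟨⟨y, hyV⟩⟩
  exact one_ne_zero h2

end general

section sdiv

variable {X S : Scheme.{u}} (f : X ⟶ S) [SmoothOfRelativeDimension 1 f] [IsSeparated f]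

omit [SmoothOfRelativeDimension 1 f] [IsSeparated f] in
/-- The ideal sheaf of the divisor `∑ x_i` on `X_T`. -/
noncomputable def sdiv {T : Over S} {n : ℕ} (x : Fin n → Pt f T) : (PicF.XT f T).IdealSheafData :=
  ∏ i, HilbD.secGraph f T (x i).1 (x i).2

theorem isEff_sdiv {T : Over S} {n : ℕ} (x : Fin n → Pt f T) : BlowUp.IsEffCartierIdeal (sdiv f x) :=
  (dcl_prod _ fun i => isEff_secGraph f (x i)).1

theorem dcl_sdiv {T : Over S} {n : ℕ} (x : Fin n → Pt f T) :
    dcl (sdiv f x) (isEff_sdiv f x) = ∏ i, gcl f (x i) :=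
  (dcl_prod _ fun i => isEff_secGraph f (x i)).2

omit [SmoothOfRelativeDimension 1 f] in
theorem comap_sdiv {T T' : Over S} (g : T' ⟶ T) {n : ℕ} (x : Fin n → Pt f T) :
    (sdiv f x).comap (PicF.XTmap f g) = sdiv f (fun i => (x i).comp g) := by
  have h1 : ∀ i, (HilbD.secGraph f T (x i).1 (x i).2).comap (PicF.XTmap f g) =
      HilbD.secGraph f T' ((x i).comp g).1 ((x i).comp g).2 := by
    intro i
    rw [← HilbPull.pull_eq_comap]
    exact pull_secGraph f (x i).1 (x i).2 g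
  have h2 : ∀ (m : ℕ) (I : Fin m → (PicF.XT f T).IdealSheafData),
      (∏ i, I i).comap (PicF.XTmap f g) = ∏ i, (I i).comap (PicF.XTmap f g) := by
    intro m I
    induction m with
    | zero =>
      rw [Fin.prod_univ_zero, Fin.prod_univ_zero, Scheme.IdealSheafData.one_eq_top,
        Scheme.IdealSheafData.one_eq_top]
      refine Divis.IdealComap.ext_of_forall_mem fun x ↦ ?_
      obtain ⟨U, V, -, hxV, -, -, e⟩ := Divis.IdealComap.exists_affine_le (PicF.XTmap f g) x ⊤ trivial ⊤ trivial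
      refine ⟨V, hxV, ?_⟩
      rw [Divis.IdealComap.ideal_comap _ _ U V e]
      simp [Ideal.map_top]
    | succ m ih =>
      rw [Fin.prod_univ_succ, Fin.prod_univ_succ, Divis.IdealComap.comap_mul, ih]
  unfold sdiv
  rw [h2]
  exact Finset.prod_congr rfl fun i _ => h1 i

/-- The line bundle `O(∑ x_i)` with its canonical section. -/
theorem exists_section {T : Over S} {n : ℕ} (x : Fin n → Pt f T) :
    ∃ (M : (PicF.XT f T).Modules) (hM : PicF.IsInvertible M) (s : Γ(M, ⊤)),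
      IsZeroIdeal M s (sdiv f x) ∧ mk M hM = (∏ i, gcl f (x i))⁻¹ := by
  obtain ⟨M, hM, s, hs⟩ := exists_section_of_isEffCartier (isEff_sdiv f x)
  exact ⟨M, hM, s, hs, by rw [mk_eq_inv_dcl hM s hs (isEff_sdiv f x), dcl_sdiv]⟩

end sdiv

section main

variable {k : Type u} [Field k] {X : Scheme.{u}} {f : X ⟶ Spec (CommRingCat.of k)}
  [SmoothOfRelativeDimension 1 f] [IsSeparated f] [Surjective f]

theorem pbTop_ne_zero {T : Over (Spec (CommRingCat.of k))} {n : ℕ} (x : Fin n → Pt f T)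
    {M : (PicF.XT f T).Modules} (hM : PicF.IsInvertible M) {s : Γ(M, ⊤)}
    (hs : IsZeroIdeal M s (sdiv f x)) (t : T.left) : pbTop f (ptHom T t) M s ≠ 0 := by
  have h1 := isZeroIdeal_pullback (PicF.XTmap f (ptHom T t)) hM hs
  rw [comap_sdiv] at h1
  have h2 : Nonempty (PicF.XT f (ptOver T t)) := by
    have : Surjective (PicF.XTproj f (ptOver T t)) := inferInstance
    exact (this.1 (IsLocalRing.closedPoint (T.left.residueField t))).nonempty
  exact ne_zero_of_isEff (isInvertible_pullback _ hM) h1 (isEff_sdiv f _)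

/-- Two divisors in the same (relative) class coincide near a point where `h⁰ = 1`, `h¹ = 0`. -/
theorem exists_sdiv_eq (P : P1Data f) {T : Over (Spec (CommRingCat.of k))} {n : ℕ}
    (x y : Fin n → Pt f T) (c : Pic T.left)
    (h : ∏ i, gcl f (x i) = (∏ i, gcl f (y i)) * pull (PicF.XTproj f T) c) (t : T.left)
    (N : (PicF.XT f T).Modules) (hN : PicF.IsInvertible N) (hNx : mk N hN = (∏ i, gcl f (x i))⁻¹)
    (hg : Good P T N t) :
    ∃ (T' : Over (Spec (CommRingCat.of k))) (g : T' ⟶ T), IsOpenImmersion g.left ∧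
      t ∈ Set.range g.left ∧ sdiv f (fun i => (x i).comp g) = sdiv f (fun i => (y i).comp g) := by
  obtain ⟨U₁, htU₁, hU₁⟩ := RepA.exists_open_pull_eq_one c t
  let T₁ : Over (Spec (CommRingCat.of k)) := Over.mk (U₁.ι ≫ T.hom)
  let t₁ : T₁.left := (⟨t, htU₁⟩ : U₁)
  let r₁ : T₁ ⟶ T := OverRep.res T U₁
  have hN₁ : PicF.IsInvertible (pb f r₁ N) := isInvertible_pullback _ hN
  have hg₁ : Good P T₁ (pb f r₁ N) t₁ := (good_pb_iff P r₁ N hN t₁).mpr hg
  obtain ⟨U₂, s, htU₂, hU₂, hs, -⟩ := cbc P T₁ (pb f r₁ N) hN₁ t₁ hg₁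
  let T₂ : Over (Spec (CommRingCat.of k)) := Over.mk (U₂.ι ≫ T₁.hom)
  have : IsAffine T₂.left := hU₂
  let r₂ : T₂ ⟶ T₁ := OverRep.res T₁ U₂
  have hx₂ : ∀ z : Fin n → Pt f T, pull (PicF.XTmap f (r₂ ≫ r₁)) (∏ i, gcl f (z i)) =
      ∏ i, gcl f ((z i).comp (r₂ ≫ r₁)) := by
    intro z
    rw [map_prod]
    exact Finset.prod_congr rfl fun i _ => pull_gcl f (z i) (r₂ ≫ r₁)
  have hc : pull (PicF.XTmap f (r₂ ≫ r₁)) (pull (PicF.XTproj f T) c) = 1 := by
    rw [← PicGrp.pull_comp, HilbPull.XTmap_snd, PicGrp.pull_comp, Over.comp_left, PicGrp.pull_comp]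
    have : pull r₁.left c = 1 := hU₁
    rw [this, map_one, map_one]
  have hxy : ∏ i, gcl f ((x i).comp (r₂ ≫ r₁)) = ∏ i, gcl f ((y i).comp (r₂ ≫ r₁)) := by
    rw [← hx₂, ← hx₂, h, map_mul, hc, mul_one]
  obtain ⟨Mx, hMx, sx, hsx, hcx⟩ := exists_section f (fun i => (x i).comp (r₂ ≫ r₁))
  obtain ⟨My, hMy, sy, hsy, hcy⟩ := exists_section f (fun i => (y i).comp (r₂ ≫ r₁))
  obtain ⟨φ⟩ : Nonempty (Mx ≅ My) := (mk_eq_iff hMx hMy).mp (by rw [hcx, hcy, hxy])
  obtain ⟨ψ⟩ : Nonempty (pb f r₂ (pb f r₁ N) ≅ Mx) := by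
    rw [← mk_eq_iff (isInvertible_pullback _ hN₁) hMx, hcx, ← hx₂, ← map_inv, ← hNx,
      HilbPull.XTmap_comp, PicGrp.pull_comp]
    rfl
  refine ⟨T₂, r₂ ≫ r₁, ?_, ?_, ?_⟩
  · exact inferInstanceAs (IsOpenImmersion (U₂.ι ≫ U₁.ι))
  · exact ⟨(⟨t₁, htU₂⟩ : U₂), rfl⟩
  · exact RepA.zeroIdeal_eq f hMx φ (h0gen_of_iso f ψ (RepA.uGen_h0gen f hs)) hsx hsy
      (pbTop_ne_zero _ hMx hsx) (pbTop_ne_zero _ hMy hsy)

end main

end K531.DivEq
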