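import Groth.Agent.JacVar.K533.AbelAt
import Groth.Agent.Sga7.H780.JK
import Groth.Agent.Grpsch.AbBC

/-!
# The data of a Jacobian with its Abel map, over any field

`exists_isJac`: for `Jac.IsJacobian f ⊤ J ψ` and `Jac.IsAbelJacobiAt f σ ψ j` (any field, `f` smooth proper
geometrically connected of dimension one) there is a universal rigidified class `ξ` on `J` (`IsJac`), the Abel map `j`
has the class `acl`, and `J` is an abelian variety.
-/

set_option autoImplicit false
universe u
open CategoryTheory CategoryTheory.Limits AlgebraicGeometry Opposite MonObj MonoidalCategory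
  CartesianMonoidalCategory

namespace K531.JacData

open Groth.Agent Groth.Agent.Grpsch Groth.Agent.Grpsch.PicGrp Groth.Agent.Fga.RigGrp
open Groth.Agent.Fga.JacSum Groth.Agent.Sga7.H732 Groth.Agent.Sga7.H732.Abel Groth.Agent.Sga7.H732.Hedge

variable {k : Type u} [Field k] {C : Scheme.{u}} {f : C ⟶ Spec (CommRingCat.of k)}

theorem exists_isJac [IsProper f] [Smooth f] [GeometricallyConnected f] [SmoothOfRelativeDimension 1 f]
    (hdim : topologicalKrullDim C = 1)
    (σ : Spec (CommRingCat.of k) ⟶ C) (hσ : σ ≫ f = 𝟙 _) (J : Over (Spec (CommRingCat.of k))) [GrpObj J]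
    (ψ : (ModFun.PicDeg f 0).Hom ⊤ J) (hJ : Jac.IsJacobian f ⊤ J ψ) :
    ∃ (ξ : Pic (PicF.XT f J)) (h : IsJac f σ hσ J ξ),
      (∀ j : Over.mk f ⟶ J, Jac.IsAbelJacobiAt f σ ψ j →
        ∀ (T : Over (Spec (CommRingCat.of k))) (z : Pt f T), cls h T (ptHom z ≫ j) = acl f σ hσ z) ∧
      IsProper J.hom ∧ Smooth J.hom ∧ GeometricallyIntegral J.hom := by
  have hX := K532.Base.isSmoothProperCurve f hdim
  have hGI := K532.Base.geometricallyIntegral f
  obtain ⟨J₀, _, ξ₀, hp, hg, h₀⟩ := Sga7.H780.JK.jk k C f hX hGI σ hσ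
  obtain ⟨e, hm, he⟩ := K532.Fine.exists_iso hdim h₀ hJ
  have hw : J.hom = e.hom.left ≫ J₀.hom := (Over.w e.hom).symm
  have hJp : IsProper J.hom := by rw [hw]; infer_instance
  have hJg : GeometricallyIntegral J.hom := by
    rw [hw]
    exact (MorphismProperty.cancel_left_of_respectsIso @GeometricallyIntegral e.hom.left J₀.hom).2 hg
  exact ⟨_, K532.Fine.isJac_of_iso h₀ e, fun j hj T z => K533.AbelAt.cls_abel hdim h₀ e he hj T z,
    hJp, Grpsch.AbBC.smooth_hom J, hJg⟩

end K531.JacData
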