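import Groth.Agent.JacVar.K531.H1Drop
import Groth.Agent.JacVar.K532.Theta1

/-!
# Inclusions between translates of the sets `W^r`

* `exists_eff`: adding general points to a class with `h¹ > 0`.
* `subset_iff`: `W^r_a ⊆ W^{g-1}_b` iff `a ∈ W^{g-1-r}_b`.
* `eq_iInter`: `W^{g-1-r} = ⋂_{a ∈ W^r} W^{g-1}_{a⁻¹}`.
-/

set_option autoImplicit false
universe u
open CategoryTheory CategoryTheory.Limits AlgebraicGeometry MonoidalCategory CartesianMonoidalCategory
open scoped MonObj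

namespace K531.WrIncl

open Groth.Agent Groth.Agent.Grpsch.PicGrp Groth.Agent.Fga.RigGrp Groth.Agent.Sga7.H732.Hedge
open Groth.Agent.Sga7.H732 K532.UnitBase K532.CurvePic K532.CurvePts K532.Dict Groth.Agent.Fga.JacSum
open Groth.Agent.Fga.JacFactor K532.Setup K532.KPts K532.Wr K532.MultPts K532.Theta1 K532

section add

variable {k : Type u} [Field k] [IsAlgClosed k] {C : Scheme.{u}} [C.Over (Spec (CommRingCat.of k))] (hX : IsCurve k C)

/-- Adding a general point. -/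
theorem exists_pt_add (c : Pic C) (hc : 0 < CurvePic.h k C 1 c) (V : C.Opens) (hV : (V : Set C).Nonempty) :
    ∃ x : KPt k C, pnt x ∈ V ∧ CurvePic.h k C 1 (c * (pcl hX x)⁻¹) + 1 = CurvePic.h k C 1 c ∧
      CurvePic.h k C 0 (c * (pcl hX x)⁻¹) = CurvePic.h k C 0 c := by
  have := hX.integral
  obtain ⟨U, hU, h1⟩ := H1Drop.exists_open_gen hX c hc
  obtain ⟨x, hx⟩ := exists_kpt hX (U ⊓ V) (by
    have := nonempty_preirreducible_inter U.isOpen V.isOpen hU hV
    exact this)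
  have h2 := h1 x.1 x.2 hx.1
  have h3 := H1Drop.h0_add hX c x.1 x.2
  refine ⟨x, hx.2, h2, ?_⟩
  change CurvePic.h k C 1 (c * (pcl hX x)⁻¹) + 1 = _ at h2
  change CurvePic.h k C 0 (c * (pcl hX x)⁻¹) + _ = _ + CurvePic.h k C 1 (c * (pcl hX x)⁻¹) + 1 at h3
  omega

include hX in
/-- Adding `n ≤ h¹` general points. -/
theorem exists_eff (c : Pic C) (n : ℕ) (hn : n ≤ CurvePic.h k C 1 c) :
    ∃ F : Pic C, 0 < CurvePic.h k C 0 F ∧ deg k C F = n ∧ CurvePic.h k C 0 (c * F) = CurvePic.h k C 0 c ∧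
      CurvePic.h k C 1 (c * F) + n = CurvePic.h k C 1 c := by
  induction n with
  | zero =>
    refine ⟨1, by rw [h0_one hX]; exact one_pos, by rw [deg_one]; rfl, by rw [mul_one], by rw [mul_one, add_zero]⟩
  | succ n ih =>
    obtain ⟨F, h1, h2, h3, h4⟩ := ih (by omega)
    obtain ⟨x, -, h5, h6⟩ := exists_pt_add hX (c * F) (by omega) ⊤ (by
      have := hX.integral
      exact Set.univ_nonempty)
    refine ⟨F * (pcl hX x)⁻¹, h0_mul_pos hX h1 (h0_inv_pcl_pos hX x), ?_, ?_, ?_⟩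
    · rw [deg_mul hX, deg_inv hX, deg_pcl, h2]
      push_cast
      ring
    · rw [← mul_assoc, h6, h3]
    · rw [← mul_assoc]
      omega

end add

section curve

variable {k : Type u} [Field k] [IsAlgClosed k] {C : Scheme.{u}} [C.Over (Spec (CommRingCat.of k))] (hX : IsCurve k C)
  {σ : Spec (CommRingCat.of k) ⟶ C} {hσ : σ ≫ (C ↘ Spec (CommRingCat.of k)) = 𝟙 (Spec (CommRingCat.of k))}
  {J : Over (Spec (CommRingCat.of k))} [GrpObj J] {ξ : Pic (PicF.XT (C ↘ Spec (CommRingCat.of k)) J)}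
  (h : IsJac (C ↘ Spec (CommRingCat.of k)) σ hσ J ξ) [IsProper (C ↘ Spec (CommRingCat.of k))]
  [SmoothOfRelativeDimension 1 (C ↘ Spec (CommRingCat.of k))] [IsProper J.hom]
  {j : Over.mk (C ↘ Spec (CommRingCat.of k)) ⟶ J} (hj : IsAbel h j)

include hX in
omit [IsAlgClosed k] [IsProper (C ↘ Spec (CommRingCat.of k))] [IsProper J.hom]
  [SmoothOfRelativeDimension 1 (C ↘ Spec (CommRingCat.of k))] in
/-- Realisation of a class of degree `r` as the twist of a rational point of the Jacobian. -/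
theorem exists_twist {c : Pic C} {r : ℕ} (hc : deg k C c = r) :
    ∃ a : 𝟙_ (Over (Spec (CommRingCat.of k))) ⟶ J, kcl h a * (pcl hX (sg hσ))⁻¹ ^ r = c := by
  obtain ⟨a, ha⟩ := exists_kcl hX h (c := c * pcl hX (sg hσ) ^ r) (by
    rw [deg_mul hX, deg_pow hX, deg_pcl, hc]; ring)
  exact ⟨a, by rw [ha, inv_pow, mul_inv_cancel_right]⟩

include hX hj

/-- `W^r_a ⊆ W^{g-1}_b` iff `a ∈ W^{g-1-r}_b`. -/
theorem subset_iff (hg : 1 ≤ gen k C) (r : ℕ) (hr : r ≤ gen k C - 1)
    (a b : 𝟙_ (Over (Spec (CommRingCat.of k))) ⟶ J) :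
    (Jac.transl J a).left.base '' W j r ⊆ (Jac.transl J b).left.base '' W j (gen k C - 1) ↔
      pa a ∈ (Jac.transl J b).left.base '' W j (gen k C - 1 - r) := by
  have hW : ∀ n, IsClosed (W j n) := isClosed_W j
  obtain ⟨n, hn⟩ : ∃ n, gen k C - 1 - r = n := ⟨_, rfl⟩
  have hg1 : gen k C - 1 = r + n := by omega
  rw [hn, hg1, pa_transl, mem_W_iff_h0 hX h hj, map_mul, map_inv]
  set q := pcl hX (sg hσ) with hq
  set a' := kcl h a with ha'
  set b' := kcl h b with hb'
  have hdD : deg k C (a' * b'⁻¹ * q⁻¹ ^ n) = n := by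
    have := deg_twist hX h n (a * b⁻¹)
    rwa [map_mul, map_inv] at this
  constructor
  · intro h1
    by_contra h2
    have h3 : CurvePic.h k C 0 (a' * b'⁻¹ * q⁻¹ ^ n) = 0 := by omega
    have h4 := rr hX (a' * b'⁻¹ * q⁻¹ ^ n)
    rw [hdD, h3] at h4
    obtain ⟨F, hF0, hFd, hF1, -⟩ := exists_eff hX (a' * b'⁻¹ * q⁻¹ ^ n) r (by omega)
    obtain ⟨e, he⟩ := exists_twist hX h hFd
    have h5 : pa (e * a) ∈ (Jac.transl J a).left.base '' W j r := by
      rw [pa_transl, mul_inv_cancel_right, mem_W_iff_h0 hX h hj, he]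
      exact hF0
    have h6 := h1 h5
    rw [pa_transl, mem_W_iff_h0 hX h hj, map_mul, map_inv, map_mul] at h6
    have h7 : kcl h e * kcl h a * (kcl h b)⁻¹ * (pcl hX (sg hσ))⁻¹ ^ (r + n) =
        (a' * b'⁻¹ * q⁻¹ ^ n) * F := by
      rw [← he, ← ha', ← hb', ← hq]
      cgroup
    rw [h7] at h6
    omega
  · intro h1
    refine closed_subset (isClosed_transl _ (hW _)) (isClosed_transl _ (hW _)) fun c => ?_
    rw [pa_transl, pa_transl, mem_W_iff_h0 hX h hj, mem_W_iff_h0 hX h hj, map_mul, map_mul, map_inv, map_inv]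
    intro h2
    have h3 := h0_mul_pos hX h1 h2
    have h4 : a' * b'⁻¹ * q⁻¹ ^ n * (kcl h c * (kcl h a)⁻¹ * (pcl hX (sg hσ))⁻¹ ^ r) =
        kcl h c * (kcl h b)⁻¹ * (pcl hX (sg hσ))⁻¹ ^ (r + n) := by
      rw [← ha', ← hb', ← hq]
      cgroup
    rwa [h4] at h3

/-- `W^{g-1-r}` is the intersection of the `W^{g-1}_{a⁻¹}`, `a ∈ W^r`. -/
theorem eq_iInter (hg : 1 ≤ gen k C) (r : ℕ) (hr : r ≤ gen k C - 1) :
    W j (gen k C - 1 - r) = ⋂ (a : 𝟙_ (Over (Spec (CommRingCat.of k))) ⟶ J) (_ : ∀ p, a.left.base p ∈ W j r),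
      (Jac.transl J a⁻¹).left.base '' W j (gen k C - 1) := by
  have hW : ∀ n, IsClosed (W j n) := isClosed_W j
  refine closed_ext (hW _) (isClosed_iInter fun a => isClosed_iInter fun _ => isClosed_transl _ (hW _)) fun c => ?_
  rw [Set.mem_iInter₂]
  have h1 := subset_iff hX h hj hg r hr c 1
  have h2 : ∀ A : Set J.left, pa c ∈ (Jac.transl J 1).left.base '' A ↔ pa c ∈ A := by
    intro A
    rw [pa_transl, inv_one, mul_one]
  rw [h2] at h1
  rw [← h1]
  constructor
  · intro h3 a ha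
    rw [pa_transl, inv_inv]
    have h4 : pa (a * c) ∈ (Jac.transl J c).left.base '' W j r := by
      rw [pa_transl, mul_inv_cancel_right]
      exact ha _
    have h5 := h3 h4
    rw [pa_transl, inv_one, mul_one] at h5
    have : a * c = c * a := by
      apply kcl_injective h
      rw [map_mul, map_mul, mul_comm]
    rwa [this] at h5
  · intro h3
    refine closed_subset (isClosed_transl _ (hW _)) (isClosed_transl _ (hW _)) fun d => ?_
    rw [pa_transl, pa_transl, inv_one, mul_one]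
    intro h4
    have h5 := h3 (d * c⁻¹) (fun p => by
      have := apply_eq_pa (d * c⁻¹) p
      rw [← this] at h4
      exact h4)
    rw [pa_transl, inv_inv] at h5
    have : c * (d * c⁻¹) = d := by
      apply kcl_injective h
      rw [map_mul, map_mul, map_inv, mul_comm, inv_mul_cancel_right]
    rwa [this] at h5

end curve

end K531.WrIncl
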