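import Groth.Agent.JacVar.K531.Martens
import Groth.Agent.JacVar.K531.WrIncl
import Groth.Agent.JacVar.K532.NonHyp

/-!
# The families `W^r` satisfy the formal properties used in Torelli's theorem

`Pts J`: the rational points of `J` (additive notation) with the Zariski topology; `Wk j r` the rational points of `W^r`.
`vFam`, `wFam`.
-/

set_option autoImplicit false
set_option linter.unusedSectionVars false
universe u
open CategoryTheory CategoryTheory.Limits AlgebraicGeometry MonoidalCategory CartesianMonoidalCategory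
open scoped MonObj

namespace K531.Fams

open Groth.Agent Groth.Agent.Grpsch.PicGrp Groth.Agent.Fga.RigGrp Groth.Agent.Sga7.H732.Hedge
open Groth.Agent.Sga7.H732 K532.UnitBase K532.CurvePic K532.CurvePts K532.Dict Groth.Agent.Fga.JacSum
open Groth.Agent.Fga.JacFactor K532.Setup K532.KPts K532.Wr K532.MultPts K532.Theta1 K532 K531.WrIncl K531.Martens

section top

variable {k : Type u} [Field k] (J : Over (Spec (CommRingCat.of k))) [GrpObj J] [IsCommMonObj J]

/-- The rational points of `J`, in additive notation. -/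
abbrev Pts : Type u := Additive (𝟙_ (Over (Spec (CommRingCat.of k))) ⟶ J)

/-- The underlying point of a rational point. -/
noncomputable def pp (a : Pts J) : J.left := pa a.toMul

noncomputable instance : TopologicalSpace (Pts J) := TopologicalSpace.induced (pp J) inferInstance

theorem continuous_pp : Continuous (pp J) := continuous_induced_dom

theorem continuous_add (a : Pts J) : Continuous fun x : Pts J => x + a := by
  rw [continuous_induced_rng]
  have : pp J ∘ (fun x : Pts J => x + a) = (Jac.transl J a.toMul).left ∘ pp J := by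
    funext x
    change pa (x.toMul * a.toMul) = (Jac.transl J a.toMul).left (pa x.toMul)
    rw [← comp_transl', pa_comp]
  rw [this]
  exact (Jac.transl J a.toMul).left.continuous.comp (continuous_pp J)

theorem continuous_neg : Continuous fun x : Pts J => -x := by
  rw [continuous_induced_rng]
  have : pp J ∘ (fun x : Pts J => -x) = ((𝟙 J)⁻¹).left ∘ pp J := by
    funext x
    change pa (x.toMul)⁻¹ = ((𝟙 J)⁻¹).left (pa x.toMul)
    rw [← pa_comp, GrpObj.comp_inv, Category.comp_id]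
  rw [this]
  exact ((𝟙 J)⁻¹).left.continuous.comp (continuous_pp J)

end top

section fam

variable {k : Type u} [Field k] [IsAlgClosed k] {C : Scheme.{u}} [C.Over (Spec (CommRingCat.of k))] (hX : IsCurve k C)
  {σ : Spec (CommRingCat.of k) ⟶ C} {hσ : σ ≫ (C ↘ Spec (CommRingCat.of k)) = 𝟙 (Spec (CommRingCat.of k))}
  {J : Over (Spec (CommRingCat.of k))} [GrpObj J] [IsCommMonObj J] {ξ : Pic (PicF.XT (C ↘ Spec (CommRingCat.of k)) J)}
  (h : IsJac (C ↘ Spec (CommRingCat.of k)) σ hσ J ξ) [IsProper (C ↘ Spec (CommRingCat.of k))]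
  [SmoothOfRelativeDimension 1 (C ↘ Spec (CommRingCat.of k))] [IsProper J.hom]
  {j : Over.mk (C ↘ Spec (CommRingCat.of k)) ⟶ J} (hj : IsAbel h j)

/-- The rational points of `W^r`. -/
def Wk (j : Over.mk (C ↘ Spec (CommRingCat.of k)) ⟶ J) (r : ℕ) : Set (Pts J) := {a | pp J a ∈ W j r}

include hX h hj

omit [IsProper J.hom] in
theorem mem_Wk [LocallyOfFiniteType J.hom] (r : ℕ) (a : Pts J) :
    a ∈ Wk j r ↔ 0 < CurvePic.h k C 0 (kcl h a.toMul * (pcl hX (sg hσ))⁻¹ ^ r) :=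
  mem_W_iff_h0 hX h hj r a.toMul

omit [IsAlgClosed k] [IsProper (C ↘ Spec (CommRingCat.of k))] [SmoothOfRelativeDimension 1 (C ↘ Spec (CommRingCat.of k))]
  [IsProper J.hom] hj hX in
theorem kcl_add (a b : Pts J) : kcl h (a + b).toMul = kcl h a.toMul * kcl h b.toMul := map_mul (kcl h) _ _

omit [IsAlgClosed k] [IsProper (C ↘ Spec (CommRingCat.of k))] [SmoothOfRelativeDimension 1 (C ↘ Spec (CommRingCat.of k))]
  [IsProper J.hom] hj hX in
theorem kcl_neg (a : Pts J) : kcl h (-a).toMul = (kcl h a.toMul)⁻¹ := map_inv (kcl h) _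

omit [IsAlgClosed k] [IsProper (C ↘ Spec (CommRingCat.of k))] [SmoothOfRelativeDimension 1 (C ↘ Spec (CommRingCat.of k))]
  [IsProper J.hom] hj hX in
theorem kcl_sub (a b : Pts J) : kcl h (a - b).toMul = kcl h a.toMul * (kcl h b.toMul)⁻¹ := by
  rw [sub_eq_add_neg, kcl_add, kcl_neg]

omit [IsAlgClosed k] [IsProper (C ↘ Spec (CommRingCat.of k))] [SmoothOfRelativeDimension 1 (C ↘ Spec (CommRingCat.of k))]
  [IsProper J.hom] hj hX in
theorem kcl_zero : kcl h (0 : Pts J).toMul = 1 := map_one (kcl h)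

omit hX h hj in
theorem closed_Wk (r : ℕ) : IsClosed (Wk j r) := (isClosed_W j r).preimage (continuous_pp J)

theorem zero_mem_Wk (r : ℕ) : (0 : Pts J) ∈ Wk j r := by
  rw [mem_Wk hX h hj, kcl_zero, one_mul]
  exact h0_pow_pos hX (h0_inv_pcl_pos hX _) r

theorem add_mem_Wk (r s : ℕ) (x y : Pts J) (hx : x ∈ Wk j r) (hy : y ∈ Wk j s) : x + y ∈ Wk j (r + s) := by
  rw [mem_Wk hX h hj] at hx hy ⊢
  have h1 := h0_mul_pos hX hx hy
  have h2 : kcl h (x + y).toMul * (pcl hX (sg hσ))⁻¹ ^ (r + s) =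
      kcl h x.toMul * (pcl hX (sg hσ))⁻¹ ^ r * (kcl h y.toMul * (pcl hX (sg hσ))⁻¹ ^ s) := by
    rw [kcl_add]
    cgroup
  rwa [h2]

/-- The canonical point. -/
theorem exists_kappa (hg : 1 ≤ gen k C) : ∃ κ : Pts J, kcl h κ.toMul = om hX * pcl hX (sg hσ) ^ (2 * gen k C - 2) := by
  obtain ⟨a, ha⟩ := exists_kcl hX h (c := om hX * pcl hX (sg hσ) ^ (2 * gen k C - 2)) (by
    rw [deg_mul hX, deg_pow hX, deg_om hX, deg_pcl]
    push_cast [Nat.cast_sub (by omega : 2 ≤ 2 * gen k C)]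
    ring)
  exact ⟨Additive.ofMul a, ha⟩

theorem refl_Wk (hg : 1 ≤ gen k C) {κ : Pts J} (hκ : kcl h κ.toMul = om hX * pcl hX (sg hσ) ^ (2 * gen k C - 2))
    (x : Pts J) (hx : x ∈ Wk j (gen k C - 1)) : κ - x ∈ Wk j (gen k C - 1) := by
  rw [mem_Wk hX h hj] at hx ⊢
  obtain ⟨n, hn⟩ : ∃ n, gen k C = n + 1 := ⟨gen k C - 1, by omega⟩
  have n1 : gen k C - 1 = n := by omega
  have n2 : 2 * gen k C - 2 = n + n := by omega
  rw [kcl_sub, hκ]
  rw [n1] at hx ⊢
  rw [n2]
  have h1 : om hX * pcl hX (sg hσ) ^ (n + n) * (kcl h x.toMul)⁻¹ * (pcl hX (sg hσ))⁻¹ ^ n =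
      om hX * (kcl h x.toMul * (pcl hX (sg hσ))⁻¹ ^ n)⁻¹ := by cgroup
  rw [h1]
  have h2 := rr' hX (kcl h x.toMul * (pcl hX (sg hσ))⁻¹ ^ n)
  rw [deg_twist hX h n x.toMul, hn] at h2
  push_cast at h2
  omega

theorem dual_Wk (hg : 1 ≤ gen k C) (r : ℕ) (hr : r ≤ gen k C - 1) (a : Pts J)
    (ha : ∀ w ∈ Wk j r, w + a ∈ Wk j (gen k C - 1)) : a ∈ Wk j (gen k C - 1 - r) := by
  have hW : ∀ n, IsClosed (W j n) := isClosed_W j
  have h1 := (subset_iff hX h hj hg r hr a.toMul 1).1 (by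
    refine closed_subset (isClosed_transl _ (hW _)) (isClosed_transl _ (hW _)) fun c hc => ?_
    rw [pa_transl] at hc ⊢
    rw [inv_one, mul_one]
    have h2 := ha (Additive.ofMul (c * a.toMul⁻¹)) hc
    have h3 : Additive.ofMul (c * a.toMul⁻¹) + a = Additive.ofMul c := by
      change Additive.ofMul (c * a.toMul⁻¹ * a.toMul) = _
      rw [inv_mul_cancel_right]
    rw [h3] at h2
    exact h2)
  rw [pa_transl, inv_one, mul_one] at h1
  exact h1

theorem inter_Wk (hg : 2 ≤ gen k C) {κ : Pts J} (hκ : kcl h κ.toMul = om hX * pcl hX (sg hσ) ^ (2 * gen k C - 2))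
    (r : ℕ) (hr : r ≤ gen k C - 2) (x : Pts J) (hx : x ∈ Wk j 1) (y : Pts J) (hy : y ∈ Wk j (gen k C - 1 - r))
    (hnot : ∃ w ∈ Wk j (r + 1), w - x + y ∉ Wk j (gen k C - 1)) (c : Pts J) (hc : c ∈ Wk j (r + 1))
    (hc' : c - x + y ∈ Wk j (gen k C - 1)) : c - x ∈ Wk j r ∨ κ - c - y ∈ Wk j (gen k C - 2) := by
  obtain ⟨w, hw, hw'⟩ := hnot
  have e : ∀ c : Pts J, c.toMul * (x.toMul * y.toMul⁻¹)⁻¹ = (c - x + y).toMul := by
    intro c
    change (c - (x - y)).toMul = _
    rw [sub_sub_eq_add_sub, add_sub_right_comm]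
  have h1 := inter_eq hX h hj hg hκ r hr 1 (x.toMul * y.toMul⁻¹) x.toMul y.toMul hx hy (by
    rw [inv_mul_cancel_right, one_mul]) (fun hsub => hw' (by
      have h2 := hsub ((pa_transl 1 w.toMul _).2 (by rw [inv_one, mul_one]; exact hw))
      rw [pa_transl, e] at h2
      exact h2))
  have h2 : pa c.toMul ∈ (Jac.transl J 1).left.base '' W j (r + 1) ∩
      (Jac.transl J (x.toMul * y.toMul⁻¹)).left.base '' W j (gen k C - 1) := by
    refine ⟨(pa_transl 1 c.toMul _).2 (by rw [inv_one, mul_one]; exact hc), ?_⟩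
    rw [pa_transl, e]
    exact hc'
  rw [h1] at h2
  rcases h2 with h2 | ⟨-, h2⟩
  · left
    rw [pa_transl, one_mul] at h2
    exact h2
  · right
    rw [pa_transl, pa_inv, pa_transl, inv_one, mul_one] at h2
    have e2 : (c.toMul * κ.toMul⁻¹)⁻¹ * y.toMul⁻¹ = (κ - c - y).toMul := by
      change (-(c - κ) - y).toMul = _
      rw [neg_sub]
    rw [e2] at h2
    exact h2

theorem mem_Wk_one (a : Pts J) : a ∈ Wk j 1 ↔
    ∃ x : KPt k C, a = Additive.ofMul (pm (C ↘ Spec (CommRingCat.of k)) x.1 x.2 ≫ j) := by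
  refine (mem_W_iff (j := j) 1 a.toMul).trans ?_
  constructor
  · rintro ⟨x, hx⟩
    refine ⟨x 0, ?_⟩
    rw [List.ofFn_succ, List.ofFn_zero, List.prod_cons, List.prod_nil, mul_one] at hx
    exact congrArg Additive.ofMul hx
  · rintro ⟨x, hx⟩
    refine ⟨fun _ => x, ?_⟩
    rw [List.ofFn_succ, List.ofFn_zero, List.prod_cons, List.prod_nil, mul_one]
    exact congrArg Additive.toMul hx

theorem inj_pt (hg : 1 ≤ gen k C) (x y : KPt k C)
    (hxy : pm (C ↘ Spec (CommRingCat.of k)) x.1 x.2 ≫ j = pm (C ↘ Spec (CommRingCat.of k)) y.1 y.2 ≫ j) : x = y := by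
  have h1 := congrArg (kcl h) hxy
  rw [kcl_pm hX h hj, kcl_pm hX h hj, mul_left_inj, inv_inj] at h1
  have h2 := K533.TwoPt.pt_eq_of_io_eq hX hg x.1 x.2 y.1 y.2 h1
  exact KPt.ext' hX h2

theorem infinite_Wk (hg : 1 ≤ gen k C) : (Wk j 1).Infinite := by
  have h1 : Infinite (KPt k C) := by
    by_contra hcon
    rw [not_infinite_iff_finite] at hcon
    have := Fintype.ofFinite (KPt k C)
    obtain ⟨x, hx⟩ := NonHyp.exists_notMem hX (Finset.univ : Finset (KPt k C))
    exact hx (Finset.mem_univ x)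
  refine Set.infinite_of_injective_forall_mem (f := fun x : KPt k C =>
    (Additive.ofMul (pm (C ↘ Spec (CommRingCat.of k)) x.1 x.2 ≫ j) : Pts J)) ?_ ?_
  · intro x y hxy
    exact inj_pt hX h hj hg x y (congrArg Additive.toMul hxy)
  · intro x
    rw [mem_Wk_one hX h hj]
    exact ⟨x, rfl⟩

theorem div_Wk (hg : 1 ≤ gen k C) {κ : Pts J} (hκ : kcl h κ.toMul = om hX * pcl hX (sg hσ) ^ (2 * gen k C - 2))
    (z : Pts J) (hz : ∃ v ∈ Wk j 1, v - z ∉ Wk j (gen k C - 1)) :
    ∃ D : Multiset (Pts J), Multiset.card D = gen k C ∧ D.sum = z + κ ∧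
      ∀ v, v ∈ D ↔ v ∈ Wk j 1 ∧ v - z ∈ Wk j (gen k C - 1) := by
  obtain ⟨n, hn⟩ : ∃ n, gen k C = n + 1 := ⟨gen k C - 1, by omega⟩
  have n1 : gen k C - 1 = n := by omega
  have n2 : 2 * gen k C - 2 = n + n := by omega
  rw [n2] at hκ
  rw [n1] at hz ⊢
  set q := pcl hX (sg hσ) with hq
  -- the class of degree `g`
  let L : Pic C := om hX * kcl h z.toMul * q ^ n * q⁻¹
  have hLd : deg k C L = gen k C := by
    simp only [L]
    rw [deg_mul hX, deg_mul hX, deg_mul hX, deg_kcl hX h, deg_pow hX, deg_inv hX, hq, deg_pcl, deg_om hX, hn]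
    push_cast
    ring
  have hL1 : 1 ≤ CurvePic.h k C 0 L := by
    have := rr hX L
    rw [hLd] at this
    omega
  have key : ∀ x : KPt k C, Additive.ofMul (pm (C ↘ Spec (CommRingCat.of k)) x.1 x.2 ≫ j) - z ∈ Wk j n ↔
      0 < CurvePic.h k C 0 (L * pcl hX x) := by
    intro x
    rw [mem_Wk hX h hj, kcl_sub]
    have h1 : kcl h (Additive.ofMul (pm (C ↘ Spec (CommRingCat.of k)) x.1 x.2 ≫ j)).toMul =
        (pcl hX x)⁻¹ * q := kcl_pm hX h hj x
    rw [h1, ← hq]
    have h2 := rr' hX ((pcl hX x)⁻¹ * q * (kcl h z.toMul)⁻¹ * q⁻¹ ^ n)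
    have h3 : deg k C ((pcl hX x)⁻¹ * q * (kcl h z.toMul)⁻¹ * q⁻¹ ^ n) = n := by
      rw [deg_mul hX, deg_mul hX, deg_mul hX, deg_inv hX, deg_inv hX, deg_pow hX, deg_inv hX, deg_kcl hX h, hq, deg_pcl,
        deg_pcl]
      ring
    have h4 : om hX * ((pcl hX x)⁻¹ * q * (kcl h z.toMul)⁻¹ * q⁻¹ ^ n)⁻¹ = L * pcl hX x := by
      simp only [L]
      cgroup
    rw [h3, h4, hn] at h2
    push_cast at h2
    omega
  have hone : CurvePic.h k C 0 L = 1 := by
    obtain ⟨v, hv, hvz⟩ := hz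
    rw [mem_Wk_one hX h hj] at hv
    obtain ⟨x, rfl⟩ := hv
    rw [key] at hvz
    have := h0_le_mul_pcl_add_one hX L x
    omega
  obtain ⟨s, hs⟩ := exists_mcl hX hL1
  refine ⟨s.map fun x => Additive.ofMul (pm (C ↘ Spec (CommRingCat.of k)) x.1 x.2 ≫ j), ?_, ?_, ?_⟩
  · rw [Multiset.card_map]
    have := deg_mcl hX s
    rw [← hs, hLd] at this
    exact_mod_cast this.symm
  · have h1 : kcl h (s.map fun x => (Additive.ofMul (pm (C ↘ Spec (CommRingCat.of k)) x.1 x.2 ≫ j) : Pts J)).sum.toMul =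
        kcl h (z + κ).toMul := by
      have h2 : ∀ t : Multiset (KPt k C),
          kcl h (t.map fun x => (Additive.ofMul (pm (C ↘ Spec (CommRingCat.of k)) x.1 x.2 ≫ j) : Pts J)).sum.toMul =
            mcl hX t * q ^ Multiset.card t := by
        intro t
        induction t using Multiset.induction_on with
        | empty =>
          rw [Multiset.map_zero, Multiset.sum_zero, kcl_zero, mcl_zero, Multiset.card_zero, pow_zero, one_mul]
        | cons x t ih =>
          have h1 : kcl h (Additive.ofMul (pm (C ↘ Spec (CommRingCat.of k)) x.1 x.2 ≫ j)).toMul =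
            (pcl hX x)⁻¹ * q := kcl_pm hX h hj x
          rw [Multiset.map_cons, Multiset.sum_cons, kcl_add, ih, mcl_cons, Multiset.card_cons, h1]
          cgroup
      have h3 : Multiset.card s = n + 1 := by
        have := deg_mcl hX s
        rw [← hs, hLd, hn] at this
        exact_mod_cast this.symm
      rw [h2, ← hs, h3, kcl_add, hκ]
      simp only [L]
      cgroup
    exact congrArg Additive.ofMul (kcl_injective h h1)
  · intro v
    rw [Multiset.mem_map, mem_Wk_one hX h hj]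
    constructor
    · rintro ⟨x, hx, rfl⟩
      refine ⟨⟨x, rfl⟩, ?_⟩
      rw [key]
      obtain ⟨t, rfl⟩ := Multiset.exists_cons_of_mem hx
      rw [hs, mcl_cons, mul_comm (pcl hX x)⁻¹, inv_mul_cancel_right]
      exact h0_mcl_pos hX t
    · rintro ⟨⟨x, rfl⟩, hx⟩
      rw [key] at hx
      obtain ⟨t, ht⟩ := exists_mcl hX hx
      have h1 : L = mcl hX (x ::ₘ t) := by
        rw [mcl_cons, ← ht, mul_comm (pcl hX x)⁻¹, mul_inv_cancel_right]
      have h2 := mcl_inj hX (s := s) (t := x ::ₘ t) (by rw [← hs]; exact hone) (by rw [← hs, h1])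
      refine ⟨x, ?_, rfl⟩
      rw [h2]
      exact Multiset.mem_cons_self _ _

theorem vFam (hg : 1 ≤ gen k C) {κ : Pts J} (hκ : kcl h κ.toMul = om hX * pcl hX (sg hσ) ^ (2 * gen k C - 2)) :
    VFam (gen k C) κ (Wk j) where
  closed := closed_Wk
  zero_mem := zero_mem_Wk hX h hj
  add_mem := add_mem_Wk hX h hj
  div := div_Wk hX h hj hg hκ

theorem irr_Wk (hGI : GeometricallyIntegral (C ↘ Spec (CommRingCat.of k))) (r : ℕ) : IsIrreducible (Wk j r) := by
  refine ⟨⟨0, zero_mem_Wk hX h hj r⟩, ?_⟩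
  have hS : IsIntegral (widePullback (Spec (CommRingCat.of k)) (fun _ : Fin r => C)
      (fun _ => (C ↘ Spec (CommRingCat.of k)))) := isIntegral_pow _ r
  have h1 : IsIrreducible (W j r) := by
    have h2 := IrreducibleSpace.isIrreducible_univ
      ↥(widePullback (Spec (CommRingCat.of k)) (fun _ : Fin r => C) (fun _ => (C ↘ Spec (CommRingCat.of k))))
    have h3 := h2.image (sm j r).left (sm j r).left.continuous.continuousOn
    rw [Set.image_univ] at h3
    exact h3
  intro U V hU hV hWU hWV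
  rw [isOpen_induced_iff] at hU hV
  obtain ⟨U, hU, rfl⟩ := hU
  obtain ⟨V, hV, rfl⟩ := hV
  obtain ⟨a, ha1, ha2⟩ := hWU
  obtain ⟨b, hb1, hb2⟩ := hWV
  obtain ⟨p, hp1, hp2, hp3⟩ := h1.2 U V hU hV ⟨pp J a, ha1, ha2⟩ ⟨pp J b, hb1, hb2⟩
  obtain ⟨c, hc1, hc2, hc3⟩ := exists_pa_mem (X := J) (A := W j r ∩ (U ∩ V)) ⟨p, hp1, hp2, hp3⟩
    ((isClosed_W j r).isLocallyClosed.inter (hU.inter hV).isLocallyClosed)
  exact ⟨Additive.ofMul c, hc1, hc2, hc3⟩

theorem wFam (hGI : GeometricallyIntegral (C ↘ Spec (CommRingCat.of k))) (hg : 2 ≤ gen k C) {κ : Pts J}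
    (hκ : kcl h κ.toMul = om hX * pcl hX (sg hσ) ^ (2 * gen k C - 2)) :
    WFam (gen k C) κ (Wk j) where
  closed := closed_Wk
  irr := irr_Wk hX h hj hGI
  zero_mem := zero_mem_Wk hX h hj
  add_mem := add_mem_Wk hX h hj
  dual := dual_Wk hX h hj (by omega)
  refl := refl_Wk hX h hj (by omega) hκ
  inter := inter_Wk hX h hj hg hκ
  inf := infinite_Wk hX h hj (by omega)

end fam

end K531.Fams
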