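import Groth.Agent.JacVar.K531.AbelMono
import Groth.Agent.JacVar.K531.UnitGood
import Groth.Agent.JacVar.K531.Fams
import Groth.Agent.S2803

/-!
# The Abel map of a curve of positive genus over an algebraically closed field is a closed immersion
-/

set_option autoImplicit false
set_option linter.unusedSectionVars false
universe u
open CategoryTheory CategoryTheory.Limits AlgebraicGeometry MonoidalCategory CartesianMonoidalCategory
open scoped MonObj

namespace K531.AbelEmb

open Groth.Agent Groth.Agent.Grpsch.PicGrp Groth.Agent.Fga.RigGrp Groth.Agent.Sga7.H732.Hedge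
open Groth.Agent.Sga7.H732 K532.UnitBase K532.CurvePic K532.CurvePts K532.Dict Groth.Agent.Fga.JacSum
open Groth.Agent.Fga.JacFactor K532.Setup K532.KPts K532.Wr K532.MultPts K532.Theta1 K532
open Groth.Agent.Fdesc.LocGen Groth.Agent.Picfga.P1Def Groth.Agent.Picfga.PicGood K531.GoodHH K531.GoodPt

/-- A proper morphism to a scheme of finite type over an algebraically closed field whose fibres over the rational points are
empty or reduced points is a closed immersion. -/
theorem isClosedImmersion_of_fibres {k : Type u} [Field k] [IsAlgClosed k] {C J : Over (Spec (CommRingCat.of k))}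
    [LocallyOfFiniteType J.hom] (j : C ⟶ J) [IsProper j.left]
    (H : ∀ a : 𝟙_ (Over (Spec (CommRingCat.of k))) ⟶ J, IsEmpty ↥(j.left.fiber (pa a)) ∨
      IsIso (j.left.fiberToSpecResidueField (pa a))) : IsClosedImmersion j.left := by
  have h1 : ∀ a : 𝟙_ (Over (Spec (CommRingCat.of k))) ⟶ J,
      ∃ U : J.left.Opens, pa a ∈ U ∧ IsClosedImmersion (j.left ∣_ U) := by
    intro a
    rw [Groth.Agent.S2803.result]
    refine ⟨H a, ⊤, trivial, ?_⟩
    have : UniversallyClosed (j.left ∣_ ⊤) := inferInstance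
    exact this
  choose U hU hU' using h1
  refine IsZariskiLocalAtTarget.of_iSup_eq_top (P := @IsClosedImmersion) U ?_ hU'
  by_contra hne
  have h2 : ((iSup U : J.left.Opens) : Set J.left)ᶜ.Nonempty := by
    rw [Set.nonempty_compl]
    intro h3
    exact hne (SetLike.coe_injective h3)
  obtain ⟨a, ha⟩ := exists_pa_mem h2 (iSup U).isOpen.isClosed_compl.isLocallyClosed
  exact ha (TopologicalSpace.Opens.mem_iSup.2 ⟨a, hU a⟩)

/-- `Spec κ(y)` of a rational point. -/
theorem fromSpecResidueField_eq {k : Type u} [Field k] [IsAlgClosed k] {J : Over (Spec (CommRingCat.of k))}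
    [LocallyOfFiniteType J.hom] (a : 𝟙_ (Over (Spec (CommRingCat.of k))) ⟶ J) :
    J.left.fromSpecResidueField (pa a) = (J.left.fromSpecResidueField (pa a) ≫ J.hom) ≫ a.left := by
  have h1 : a.left = pointOfClosedPoint J.hom (pa a) (isClosed_pa a) :=
    ext_of_apply_closedPoint_eq J.hom (w a) (pointOfClosedPoint_comp _ _ _)
      (pointOfClosedPoint_apply J.hom (pa a) (isClosed_pa a) _).symm
  rw [← SpecMap_residueFieldIsoBase_inv J.hom (pa a) (isClosed_pa a)]
  conv_rhs => rw [h1]
  rw [pointOfClosedPoint, ← Spec.map_comp_assoc, Iso.hom_inv_id, Spec.map_id, Category.id_comp]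

section curve

variable {k : Type u} [Field k] [IsAlgClosed k] {C : Scheme.{u}} [C.Over (Spec (CommRingCat.of k))] (hX : IsCurve k C)
  {σ : Spec (CommRingCat.of k) ⟶ C} {hσ : σ ≫ (C ↘ Spec (CommRingCat.of k)) = 𝟙 (Spec (CommRingCat.of k))}
  {J : Over (Spec (CommRingCat.of k))} [GrpObj J] {ξ : Pic (PicF.XT (C ↘ Spec (CommRingCat.of k)) J)}
  (h : IsJac (C ↘ Spec (CommRingCat.of k)) σ hσ J ξ) [IsProper (C ↘ Spec (CommRingCat.of k))]
  [SmoothOfRelativeDimension 1 (C ↘ Spec (CommRingCat.of k))] [IsProper J.hom]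
  {j : Over.mk (C ↘ Spec (CommRingCat.of k)) ⟶ J} (hj : IsAbel h j)

theorem h0_pcl_inv (hg : 1 ≤ gen k C) (x : KPt k C) : CurvePic.h k C 0 (pcl hX x)⁻¹ = 1 := by
  have h1 := h0_inv_pcl_pos hX x
  have h2 := h0_le_deg hX h1
  rw [deg_inv hX, deg_pcl] at h2
  by_contra h3
  have h4 : (CurvePic.h k C 0 (pcl hX x)⁻¹ : ℤ) = deg k C (pcl hX x)⁻¹ + 1 := by
    rw [deg_inv hX, deg_pcl]
    omega
  have h5 := gen_eq_zero_of_h0_eq hX h1 h4 (by rw [deg_inv hX, deg_pcl]; norm_num)
  omega

include hX in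
theorem h0one_pt (hg : 1 ≤ gen k C) (x : KPt k C)
    (M : (PicF.XT (C ↘ Spec (CommRingCat.of k)) (𝟙_ (Over (Spec (CommRingCat.of k))))).Modules) (hM : PicF.IsInvertible M)
    (hMc : mk M hM = (gcl (C ↘ Spec (CommRingCat.of k)) (pt (C ↘ Spec (CommRingCat.of k)) x.1 x.2))⁻¹) :
    H0one (C ↘ Spec (CommRingCat.of k)) (𝟙_ (Over (Spec (CommRingCat.of k)))) M := by
  obtain ⟨N, hN, hNc⟩ := exists_mk (pcl hX x)⁻¹
  have h1 : pull (ui (C ↘ Spec (CommRingCat.of k))) (mk M hM) = mk N hN := by
    rw [hMc, map_inv, pull_ui_gcl, ← hNc]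
    rfl
  have h2 : mk M hM = pull (pullback.fst (C ↘ Spec (CommRingCat.of k)) (𝟙_ (Over (Spec (CommRingCat.of k)))).hom)
      (mk N hN) := by
    rw [← h1]
    exact ((uiPic (C ↘ Spec (CommRingCat.of k))).symm_apply_apply (mk M hM)).symm
  rw [pull_mk, mk_eq_iff] at h2
  obtain ⟨e⟩ := h2
  refine h0one_of_iso _ e.symm ?_
  refine (h0one_iff (𝟙 _) _).2 ?_
  obtain ⟨e0⟩ := nonempty_equiv (C ↘ Spec (CommRingCat.of k)) N hN 0
  have h3 := h0_pcl_inv hX hg x
  rw [hNc, h_mk] at h3
  exact e0.finrank_eq.symm.trans h3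

include hX hj in
/-- The Abel map is a closed immersion. -/
theorem isClosedImmersion (hg : 1 ≤ gen k C) : IsClosedImmersion j.left := by
  have hp : IsProper (j.left ≫ J.hom) := by
    rw [Over.w]
    exact inferInstanceAs (IsProper (C ↘ Spec (CommRingCat.of k)))
  have hp' : IsProper j.left := IsProper.of_comp j.left J.hom
  have hsurj : Surjective (C ↘ Spec (CommRingCat.of k)) := by
    constructor
    intro s
    exact ⟨σ s, by rw [← Scheme.Hom.comp_apply, hσ]; rfl⟩
  obtain ⟨P⟩ := Picfga.CurveP1.exists_p1Data hX.curve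
  refine isClosedImmersion_of_fibres j fun a => ?_
  by_cases hne : IsEmpty ↥(j.left.fiber (pa a))
  · exact Or.inl hne
  · right
    rw [not_isEmpty_iff] at hne
    obtain ⟨p⟩ := hne
    have h1 : pa a ∈ Set.range j.left := by
      refine ⟨j.left.fiberι (pa a) p, ?_⟩
      have h2 : j.left.fiberι (pa a) ≫ j.left = j.left.fiberToSpecResidueField (pa a) ≫ J.left.fromSpecResidueField (pa a) :=
        pullback.condition
      rw [← Scheme.Hom.comp_apply, h2, Scheme.Hom.comp_apply, Scheme.fromSpecResidueField_apply]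
    have hft : LocallyOfFiniteType (Over.mk (C ↘ Spec (CommRingCat.of k))).hom :=
      inferInstanceAs (LocallyOfFiniteType (C ↘ Spec (CommRingCat.of k)))
    obtain ⟨b, hb⟩ := (mem_range_iff j a).1 h1
    let x₀ : Pt (C ↘ Spec (CommRingCat.of k)) (𝟙_ (Over (Spec (CommRingCat.of k)))) := ⟨b.left, Over.w b⟩
    let T : Over (Spec (CommRingCat.of k)) := Over.mk (j.left.fiberι (pa a) ≫ (C ↘ Spec (CommRingCat.of k)))
    let x : Pt (C ↘ Spec (CommRingCat.of k)) T := ⟨j.left.fiberι (pa a), rfl⟩
    let u := J.left.fromSpecResidueField (pa a) ≫ J.hom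
    have hcond : j.left.fiberι (pa a) ≫ j.left =
        j.left.fiberToSpecResidueField (pa a) ≫ J.left.fromSpecResidueField (pa a) := pullback.condition
    have hu : j.left.fiberToSpecResidueField (pa a) ≫ u = T.hom := by
      change j.left.fiberToSpecResidueField (pa a) ≫ J.left.fromSpecResidueField (pa a) ≫ J.hom = _
      rw [← Category.assoc, ← hcond, Category.assoc, Over.w j]
      rfl
    have hfr : J.left.fromSpecResidueField (pa a) = u ≫ a.left := fromSpecResidueField_eq a
    have hx : Abel.ptHom x ≫ j = toUnit T ≫ a := by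
      apply Over.OverMorphism.ext
      change j.left.fiberι (pa a) ≫ j.left = (toUnit T).left ≫ a.left
      rw [toUnit_left, hcond, hfr, ← Category.assoc, hu]
    have hx₀ : Abel.ptHom (x₀.comp (toUnit T)) ≫ j = toUnit T ≫ a := by
      have : Abel.ptHom (x₀.comp (toUnit T)) = toUnit T ≫ b := rfl
      rw [this, Category.assoc, hb]
    have hxx : x = x₀.comp (toUnit T) := by
      refine AbelMono.eq_const P σ hσ x₀ (fun M hM hMc => h0one_pt hX hg ⟨b.left, Over.w b⟩ M hM hMc) x ?_
      rw [← hj, ← hj, hx, hx₀]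
    have hfi : j.left.fiberι (pa a) = T.hom ≫ b.left := by
      have h3 := congrArg Subtype.val hxx
      change j.left.fiberι (pa a) = (toUnit T).left ≫ b.left at h3
      rw [toUnit_left] at h3
      exact h3
    have hcomm : (u ≫ b.left) ≫ j.left = 𝟙 _ ≫ J.left.fromSpecResidueField (pa a) := by
      have h3 : b.left ≫ j.left = a.left := congrArg CommaMorphism.left hb
      rw [Category.assoc, Category.id_comp, h3, ← hfr]
    obtain ⟨l, hl1, hl2⟩ : ∃ l : Spec (J.left.residueField (pa a)) ⟶ j.left.fiber (pa a),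
        l ≫ j.left.fiberι (pa a) = u ≫ b.left ∧ l ≫ j.left.fiberToSpecResidueField (pa a) = 𝟙 _ :=
      ⟨pullback.lift (u ≫ b.left) (𝟙 _) hcomm, pullback.lift_fst _ _ _, pullback.lift_snd _ _ _⟩
    refine ⟨l, ?_, hl2⟩
    apply pullback.hom_ext
    · change (j.left.fiberToSpecResidueField (pa a) ≫ l) ≫ j.left.fiberι (pa a) = 𝟙 _ ≫ j.left.fiberι (pa a)
      rw [Category.assoc, hl1, Category.id_comp, ← Category.assoc, hu, ← hfi]
    · change (j.left.fiberToSpecResidueField (pa a) ≫ l) ≫ j.left.fiberToSpecResidueField (pa a) =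
        𝟙 _ ≫ j.left.fiberToSpecResidueField (pa a)
      rw [Category.assoc, hl2, Category.id_comp, Category.comp_id]

end curve

end K531.AbelEmb
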