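import Groth.Agent.JacVar.K531.SumEq
import Groth.Agent.JacVar.K531.DivEq

/-!
# The Abel map is injective at a rational point, scheme-theoretically

`eq_const`: let `x₀` be a rational point of a smooth curve over a field with `h⁰(O(x₀)) = 1`. A family `x ∈ C(T)` whose
class `O(x - σ)` agrees (up to `T`) with the class of the constant family `x₀` is the constant family.
-/

set_option autoImplicit false
set_option backward.isDefEq.respectTransparency false
universe u
open CategoryTheory CategoryTheory.Limits AlgebraicGeometry Opposite TopologicalSpace MonObj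
  MonoidalCategory CartesianMonoidalCategory
open scoped TensorProduct

namespace K531.AbelMono

section alg

variable {B B' N M : Type*} [CommRing B] [CommRing B'] [Algebra B B'] [Module.Flat B B']
  [AddCommGroup N] [Module B N] [AddCommGroup M] [Module B M]

/-- A free generator of the kernel stays a free generator after flat base change. -/
theorem gen_baseChange (d : N →ₗ[B] M) (s : N) (hs : s ∈ LinearMap.ker d)
    (h : ∀ x ∈ LinearMap.ker d, ∃! c : B, x = c • s) :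
    ∀ x ∈ LinearMap.ker (d.baseChange B'), ∃! c : B', x = c • ((1 : B') ⊗ₜ[B] s) := by
  let e : B →ₗ[B] N := LinearMap.toSpanSingleton B N s
  have he : Function.Injective e := by
    intro a b hab
    have h1 : a • s = b • s := hab
    obtain ⟨c, -, hc⟩ := h (a • s) (Submodule.smul_mem _ _ hs)
    rw [hc a rfl, hc b h1]
  have hex : Function.Exact e d := by
    intro x
    constructor
    · intro hx
      obtain ⟨c, hc, -⟩ := h x hx
      exact ⟨c, hc.symm⟩
    · rintro ⟨c, rfl⟩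
      exact Submodule.smul_mem _ c hs
  have hex' := Module.Flat.lTensor_exact B' hex
  have he' := Module.Flat.lTensor_preserves_injective_linearMap (M := B') e he
  have key : ∀ c : B', (e.lTensor B') (c ⊗ₜ[B] (1 : B)) = c • ((1 : B') ⊗ₜ[B] s) := by
    intro c
    rw [LinearMap.lTensor_tmul, TensorProduct.smul_tmul', smul_eq_mul, _root_.mul_one]
    change c ⊗ₜ[B] ((1 : B) • s) = _
    rw [one_smul]
  intro x hx
  obtain ⟨z, hz⟩ := (hex' x).1 hx
  have hz1 : z = (TensorProduct.rid B B' z) ⊗ₜ[B] (1 : B) := by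
    apply (TensorProduct.rid B B').injective
    rw [TensorProduct.rid_tmul, one_smul]
  refine ⟨TensorProduct.rid B B' z, ?_, ?_⟩
  · change x = _
    rw [← key, ← hz1, hz]
  · intro c hc
    change x = _ at hc
    rw [← key, ← hz] at hc
    rw [he' hc, TensorProduct.rid_tmul, one_smul]

end alg

open Groth.Agent
open Groth.Agent.Grpsch Groth.Agent.Grpsch.PicGrp Groth.Agent.Fga.RigGrp Groth.Agent.Fga.JacSum
open Groth.Agent.Fga.JacFactor Groth.Agent.Fga.ZeroClass
open Groth.Agent.Picfga Groth.Agent.Picfga.ZeroDef Groth.Agent.Fdesc.LocGen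
open Groth.Agent.Picfga.ZeroDiv Groth.Agent.Picfga.P1Def Groth.Agent.Picfga.PicGood
open Groth.Agent.Picfga.PicCBC Groth.Agent.Picfga.SecGraph K531.DivEq K531.Perm K531.SumEq K531.GoodHH

variable {k : Type u} [Field k] {X : Scheme.{u}} {f : X ⟶ Spec (CommRingCat.of k)}

theorem h0gen_pb (P : P1Data f) {T₀ T' : Over (Spec (CommRingCat.of k))} [IsAffine T₀.left] [IsAffine T'.left]
    (hT₀ : IsField Γ(T₀.left, ⊤)) {M : (PicF.XT f T₀).Modules} (hM : PicF.IsInvertible M) {s : Γ(M, ⊤)}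
    (hs : H0gen f T₀ M s) (g : T' ⟶ T₀) : H0gen f T' (pb f g M) (pbTop f g M s) := by
  let _ := SecBC.algT g
  have hfl : Module.Flat Γ(T₀.left, ⊤) Γ(T'.left, ⊤) := by
    let _ := hT₀.toField
    exact inferInstance
  rw [LatH0.h0gen_pb_iff P g M (Ega2.QCohLocal.isQCoh_of_isInvertible hM)]
  exact gen_baseChange (LatH0.dd P T₀ M) (LatH0.pr P T₀ M s) (LatH0.pr_mem P T₀ M s) ((LatH0.h0gen_iff P T₀ M s).1 hs)

theorem h0gen_of_ne_zero {T₀ : Over (Spec (CommRingCat.of k))} (hT₀ : IsField Γ(T₀.left, ⊤))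
    {M : (PicF.XT f T₀).Modules} (h : H0one f T₀ M) {s : Γ(M, ⊤)} (hs : s ≠ 0) : H0gen f T₀ M s := by
  obtain ⟨s₀, hs₀⟩ := h
  obtain ⟨c, rfl, -⟩ := hs₀ s
  have hc : c ≠ 0 := by
    rintro rfl
    exact hs (by rw [RepA.fn_zero, zero_smul])
  obtain ⟨v, hv⟩ := hT₀.mul_inv_cancel hc
  intro m
  obtain ⟨a, rfl, ha⟩ := hs₀ m
  refine ⟨a * v, ?_, ?_⟩
  · change fn f T₀ a • s₀ = _
    rw [smul_smul, ← RepA.fn_mul, _root_.mul_assoc, _root_.mul_comm v c, hv, _root_.mul_one]
  · intro b hb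
    change fn f T₀ a • s₀ = _ at hb
    rw [smul_smul, ← RepA.fn_mul] at hb
    rw [← ha (b * c) hb, _root_.mul_assoc, hv, _root_.mul_one]

variable [SmoothOfRelativeDimension 1 f] [IsSeparated f] [Surjective f]

theorem eq_const_local (P : P1Data f) (x₀ : Pt f (𝟙_ (Over (Spec (CommRingCat.of k)))))
    {M₀ : (PicF.XT f (𝟙_ (Over (Spec (CommRingCat.of k))))).Modules} (hM₀ : PicF.IsInvertible M₀)
    {s₀ : Γ(M₀, ⊤)} (hz₀ : IsZeroIdeal M₀ s₀ (sdiv f fun _ : Fin 1 => x₀))
    (hc₀ : mk M₀ hM₀ = (∏ i : Fin 1, gcl f ((fun _ : Fin 1 => x₀) i))⁻¹)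
    (hs₀ : H0gen f (𝟙_ (Over (Spec (CommRingCat.of k)))) M₀ s₀)
    {T : Over (Spec (CommRingCat.of k))} [IsAffine T.left] (x : Pt f T)
    (h : gcl f x = gcl f (x₀.comp (toUnit T))) : x = x₀.comp (toUnit T) := by
  have hT₀ : IsField Γ((𝟙_ (Over (Spec (CommRingCat.of k)))).left, ⊤) := isField_Spec k
  have : IsAffine (𝟙_ (Over (Spec (CommRingCat.of k)))).left := inferInstanceAs (IsAffine (Spec _))
  obtain ⟨My, hMy, sy, hsy, hcy⟩ := exists_section f (fun _ : Fin 1 => x)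
  have hz₁ := isZeroIdeal_pullback (PicF.XTmap f (toUnit T)) hM₀ hz₀
  rw [comap_sdiv] at hz₁
  have hM₁ : PicF.IsInvertible (pb f (toUnit T) M₀) := isInvertible_pullback _ hM₀
  obtain ⟨φ⟩ : Nonempty (pb f (toUnit T) M₀ ≅ My) := by
    rw [← mk_eq_iff hM₁ hMy, hcy]
    have h1 : mk (pb f (toUnit T) M₀) hM₁ = pull (PicF.XTmap f (toUnit T)) (mk M₀ hM₀) := rfl
    rw [h1, hc₀, map_inv, map_prod]
    congr 1
    refine Finset.prod_congr rfl fun i _ => ?_
    rw [pull_gcl, h]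
  have h2 := RepA.zeroIdeal_eq f hM₁ φ (h0gen_pb P hT₀ hM₀ hs₀ (toUnit T)) hz₁ hsy
    (pbTop_ne_zero _ hM₁ hz₁) (pbTop_ne_zero _ hMy hsy)
  have h3 : HilbD.secGraph f T x.1 x.2 = HilbD.secGraph f T (x₀.comp (toUnit T)).1 (x₀.comp (toUnit T)).2 := by
    have h4 : ∀ z : Pt f T, sdiv f (fun _ : Fin 1 => z) = HilbD.secGraph f T z.1 z.2 := by
      intro z
      unfold sdiv
      rw [Fin.prod_univ_one]
    have h5 : sdiv f (fun i => ((fun _ : Fin 1 => x₀) i).comp (toUnit T)) = sdiv f (fun _ : Fin 1 => x) := h2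
    rw [h4, h4] at h5
    exact h5.symm
  have h6 := (comap_coinc_eq_bot_iff f (x₀.comp (toUnit T)) x (𝟙 _)).1 (by
    rw [Scheme.IdealSheafData.comap_id, coinc, ← h3]
    have h7 := (comap_coinc_eq_bot_iff f x x (𝟙 _)).2 rfl
    rwa [Scheme.IdealSheafData.comap_id, coinc] at h7)
  rw [Category.id_comp, Category.id_comp] at h6
  exact Subtype.ext h6.symm

/-- A family of points with the class of a constant family is constant. -/
theorem eq_const (P : P1Data f) (σ : Spec (CommRingCat.of k) ⟶ X) (hσ : σ ≫ f = 𝟙 _)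
    (x₀ : Pt f (𝟙_ (Over (Spec (CommRingCat.of k)))))
    (hone : ∀ (M : (PicF.XT f (𝟙_ (Over (Spec (CommRingCat.of k))))).Modules) (hM : PicF.IsInvertible M),
      mk M hM = (gcl f x₀)⁻¹ → H0one f (𝟙_ (Over (Spec (CommRingCat.of k)))) M)
    {T : Over (Spec (CommRingCat.of k))} (x : Pt f T)
    (h : acl f σ hσ x = acl f σ hσ (x₀.comp (toUnit T))) : x = x₀.comp (toUnit T) := by
  obtain ⟨M₀, hM₀, s₀, hz₀, hc₀⟩ := exists_section f (fun _ : Fin 1 => x₀)
  have hT₀ : IsField Γ((𝟙_ (Over (Spec (CommRingCat.of k)))).left, ⊤) := isField_Spec k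
  have hne : Nonempty (PicF.XT f (𝟙_ (Over (Spec (CommRingCat.of k))))) := by
    have : Surjective (PicF.XTproj f (𝟙_ (Over (Spec (CommRingCat.of k))))) := inferInstance
    exact (this.1 (IsLocalRing.closedPoint k)).nonempty
  have hs₀ : H0gen f (𝟙_ (Over (Spec (CommRingCat.of k)))) M₀ s₀ :=
    h0gen_of_ne_zero hT₀ (hone M₀ hM₀ (by rw [hc₀, Fin.prod_univ_one]))
      (ne_zero_of_isEff hM₀ hz₀ (isEff_sdiv f _))
  obtain ⟨c, hc⟩ := exists_of_prod_acl_eq f σ hσ (fun _ : Fin 1 => x) (fun _ : Fin 1 => x₀.comp (toUnit T)) (by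
    rw [Fin.prod_univ_one, Fin.prod_univ_one]
    exact h)
  rw [Fin.prod_univ_one, Fin.prod_univ_one] at hc
  have hloc : Sga7.H732.Abel.ptHom x = Sga7.H732.Abel.ptHom (x₀.comp (toUnit T)) := by
    apply eq_of_local
    intro t
    obtain ⟨U₁, htU₁, hU₁⟩ := RepA.exists_open_pull_eq_one c t
    obtain ⟨_, ⟨(U₂ : T.left.Opens), hU₂, rfl⟩, htU₂, hle⟩ :=
      T.left.isBasis_affineOpens.exists_subset_of_mem_open htU₁ U₁.2
    let T' : Over (Spec (CommRingCat.of k)) := Over.mk (U₂.ι ≫ T.hom)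
    let g : T' ⟶ T := OverRep.res T U₂
    have hT' : IsAffine T'.left := hU₂
    have hpc : pull g.left c = 1 := by
      have h1 : g.left = T.left.homOfLE (show U₂ ≤ U₁ from hle) ≫ U₁.ι := (Scheme.homOfLE_ι _ _).symm
      rw [h1, PicGrp.pull_comp, hU₁, map_one]
    refine ⟨T', g, inferInstanceAs (IsOpenImmersion U₂.ι), ⟨(⟨t, htU₂⟩ : U₂), rfl⟩, ?_⟩
    rw [comp_ptHom, comp_ptHom]
    have h2 : (x₀.comp (toUnit T)).comp g = x₀.comp (toUnit T') := by
      apply Subtype.ext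
      have h3 : g ≫ toUnit T = toUnit T' := toUnit_unique _ _
      rw [← h3]
      simp
    rw [h2]
    congr 1
    refine eq_const_local P x₀ hM₀ hz₀ hc₀ hs₀ (x.comp g) ?_
    have h4 := congrArg (pull (PicF.XTmap f g)) hc
    rw [map_mul, pull_gcl, pull_gcl, ← PicGrp.pull_comp, HilbPull.XTmap_snd, PicGrp.pull_comp, hpc, map_one,
      _root_.mul_one, h2] at h4
    exact h4
  exact Subtype.ext (congrArg CommaMorphism.left hloc)

end K531.AbelMono
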