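import Groth.Agent.JacVar.K531.JacData
import Groth.Agent.JacVar.K531.GoodPt
import Groth.Agent.S1536
import Groth.Agent.S8118

/-!
# The Albanese property of the Jacobian, in the language of the prelude

`existsUnique`: for a smooth proper geometrically connected curve of genus `> 0` over any field with a rational
point `σ`, every morphism `φ : C ⟶ A` to a proper commutative group scheme with `φ(σ) = 0` factors uniquely
through the Abel map by a homomorphism.
-/

set_option autoImplicit false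
universe u
open CategoryTheory CategoryTheory.Limits AlgebraicGeometry Opposite MonObj MonoidalCategory
  CartesianMonoidalCategory

namespace K531.AlbMain

open Groth.Agent Groth.Agent.Grpsch Groth.Agent.Grpsch.PicGrp Groth.Agent.Fga.RigGrp
open Groth.Agent.Fga.JacSum Groth.Agent.Sga7.H732 Groth.Agent.Sga7.H732.Abel Groth.Agent.Sga7.H732.Hedge
open Groth.Agent.Picfga.ChiDef

variable {k : Type u} [Field k] {C : Scheme.{u}} {f : C ⟶ Spec (CommRingCat.of k)}

theorem chi_eq [IsProper f] [Smooth f] [GeometricallyConnected f] {K : Type u} [Field K]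
    (t : Spec (CommRingCat.of K) ⟶ Spec (CommRingCat.of k)) :
    (letI : C.Over (Spec (CommRingCat.of k)) := ⟨f⟩; chiK f t 1 + (Curv2.genus k C : ℤ) = 1) := by
  let _ : C.Over (Spec (CommRingCat.of k)) := ⟨f⟩
  have : IsProper (C ↘ Spec (CommRingCat.of k)) := ‹IsProper f›
  have : Smooth (C ↘ Spec (CommRingCat.of k)) := ‹Smooth f›
  have : GeometricallyConnected (C ↘ Spec (CommRingCat.of k)) := ‹GeometricallyConnected f›
  have := Flat2B.SmoothGeom.geometricallyReduced_of_smooth (C ↘ (Spec (CommRingCat.of k)))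
  rw [SurjSum.chiK_one]
  have h := S1536.result k C
  rw [h]
  push_cast
  ring

/-- The Albanese property. -/
theorem existsUnique [IsProper f] [Smooth f] [GeometricallyConnected f]
    (hdim : topologicalKrullDim C = 1)
    (hg : letI : C.Over (Spec (CommRingCat.of k)) := ⟨f⟩; 0 < Curv2.genus k C)
    (σ : Spec (CommRingCat.of k) ⟶ C) (hσ : σ ≫ f = 𝟙 _)
    (J : Over (Spec (CommRingCat.of k))) [GrpObj J] [IsCommMonObj J]
    (ψ : (ModFun.PicDeg f 0).Hom ⊤ J) (hJ : Jac.IsJacobian f ⊤ J ψ)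
    (j : Over.mk f ⟶ J) (hj : Jac.IsAbelJacobiAt f σ ψ j)
    (A : Over (Spec (CommRingCat.of k))) [GrpObj A] [IsCommMonObj A] [IsProper A.hom]
    (φ : Over.mk f ⟶ A) (hφ : σ ≫ φ.left = η[A].left) :
    ∃! χ : J ⟶ A, IsMonHom χ ∧ j ≫ χ = φ := by
  let _ : C.Over (Spec (CommRingCat.of k)) := ⟨f⟩
  have hX := K532.Base.isSmoothProperCurve f hdim
  have hGI := K532.Base.geometricallyIntegral f
  have hrel := K532.Base.smoothOfRelDim f hdim
  obtain ⟨ξ, h, hα, hJp, hJs, hJg⟩ := JacData.exists_isJac hdim σ hσ J ψ hJ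
  have hJi : IsIntegral J.left := GeometricallyIntegral.isIntegral_of_subsingleton J.hom
  have hsurj : Surjective f := by
    constructor
    intro s
    exact ⟨σ s, by rw [← Scheme.Hom.comp_apply, hσ]; rfl⟩
  obtain ⟨P⟩ := Picfga.CurveP1.exists_p1Data hX
  obtain ⟨n, hn⟩ : ∃ n, Curv2.genus k C = n + 1 := ⟨Curv2.genus k C - 1, by
    change 0 < Curv2.genus k C at hg; omega⟩
  have hchi : ∀ (K : Type u) [Field K] (t : Spec (CommRingCat.of K) ⟶ Spec (CommRingCat.of k)),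
      chiK f t 1 + ((n + 1 : ℕ) : ℤ) = 1 := by
    intro K _ t
    have h1 := chi_eq (f := f) t
    rw [hn] at h1
    exact h1
  have hGIr : GeometricallyIrreducible f := inferInstance
  obtain ⟨Z, x, hZ, hZp, hZs, hZg, hZi⟩ := PowGeom.exists_pow f (n + 1)
  obtain ⟨W, hW, hWg, hWd⟩ := GoodPt.exists_open hdim P σ hσ (n + 1) hchi hZ
  have hsum := SurjSum.surjective_sumHom h (hα j hj) hX (n := n + 1)
    (fun K _ t => by rw [hchi K t]; exact one_pos) hZ
  refine Albanese.existsUnique_hom h (hα j hj) P hZ hsum W hW hWg hWd A φ ?_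
  intro T
  ext1
  change (T.hom ≫ σ) ≫ φ.left = (1 : T ⟶ A).left
  rw [Category.assoc, hφ, Hom.one_def, Over.comp_left]
  rfl

/-- The Abel map sends the base point to the origin. -/
theorem ofSection_comp [IsProper f] [Smooth f] [GeometricallyConnected f]
    (hdim : topologicalKrullDim C = 1)
    (σ : Spec (CommRingCat.of k) ⟶ C) (hσ : σ ≫ f = 𝟙 _)
    (J : Over (Spec (CommRingCat.of k))) [GrpObj J] [IsCommMonObj J]
    (ψ : (ModFun.PicDeg f 0).Hom ⊤ J) (hJ : Jac.IsJacobian f ⊤ J ψ)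
    (j : Over.mk f ⟶ J) (hj : Jac.IsAbelJacobiAt f σ ψ j) (T : Over (Spec (CommRingCat.of k))) :
    ptHom (Pt.ofSection hσ T) ≫ j = 1 := by
  have hrel := K532.Base.smoothOfRelDim f hdim
  obtain ⟨ξ, h, hα, hJp, hJs, hJg⟩ := JacData.exists_isJac hdim σ hσ J ψ hJ
  exact SurjSum.ptHom_ofSection h (hα j hj) T

/-- The universal property of the difference map `C × C ⟶ J`. -/
theorem existsUnique_diff [IsProper f] [Smooth f] [GeometricallyConnected f]
    (hdim : topologicalKrullDim C = 1)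
    (hg : letI : C.Over (Spec (CommRingCat.of k)) := ⟨f⟩; 0 < Curv2.genus k C)
    (σ : Spec (CommRingCat.of k) ⟶ C) (hσ : σ ≫ f = 𝟙 _)
    (J : Over (Spec (CommRingCat.of k))) [GrpObj J] [IsCommMonObj J]
    (ψ : (ModFun.PicDeg f 0).Hom ⊤ J) (hJ : Jac.IsJacobian f ⊤ J ψ)
    (j : Over.mk f ⟶ J) (hj : Jac.IsAbelJacobiAt f σ ψ j)
    (A : Over (Spec (CommRingCat.of k))) [GrpObj A] [IsCommMonObj A] [IsProper A.hom]
    [GeometricallyIntegral A.hom]
    (φ : Over.mk f ⊗ Over.mk f ⟶ A)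
    (hφ : lift (𝟙 (Over.mk f)) (𝟙 (Over.mk f)) ≫ φ = toUnit _ ≫ η[A]) :
    ∃! χ : J ⟶ A, IsMonHom χ ∧
      ((fst (Over.mk f) (Over.mk f) ≫ j) * (snd (Over.mk f) (Over.mk f) ≫ j)⁻¹) ≫ χ = φ := by
  have hGI := K532.Base.geometricallyIntegral f
  have : IsProper (Over.mk f).hom := ‹IsProper f›
  have : GeometricallyIntegral (Over.mk f).hom := hGI
  let p : 𝟙_ (Over (Spec (CommRingCat.of k))) ⟶ Over.mk f := ptHom (Pt.ofSection hσ _)
  have hp : toUnit (Over.mk f) ≫ p = ptHom (Pt.ofSection hσ (Over.mk f)) := by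
    rw [SumEq.comp_ptHom, Pt.ofSection_comp]
  have hpj : toUnit (Over.mk f) ≫ p ≫ j = 1 := by
    rw [← Category.assoc, hp]
    exact ofSection_comp hdim σ hσ J ψ hJ j hj _
  have hdiag : lift p p ≫ φ = η[A] := by
    have h1 : lift p p = p ≫ lift (𝟙 (Over.mk f)) (𝟙 (Over.mk f)) := by
      rw [comp_lift, Category.comp_id]
    rw [h1, Category.assoc, hφ, ← Category.assoc, toUnit_unique (p ≫ toUnit _) (𝟙 _), Category.id_comp]
  obtain ⟨hdec, -⟩ := S8118.result k (Over.mk f) (Over.mk f) A p p φ hdiag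
  let φ₁ : Over.mk f ⟶ A := lift (𝟙 _) (toUnit (Over.mk f) ≫ p) ≫ φ
  let φ₂ : Over.mk f ⟶ A := lift (toUnit (Over.mk f) ≫ p) (𝟙 _) ≫ φ
  have hdec' : φ = (fst _ _ ≫ φ₁) * (snd _ _ ≫ φ₂) := hdec
  have h12 : φ₁ * φ₂ = 1 := by
    have h1 : lift (𝟙 (Over.mk f)) (𝟙 (Over.mk f)) ≫ ((fst _ _ ≫ φ₁) * (snd _ _ ≫ φ₂)) = 1 := by
      rw [← hdec', hφ, Hom.one_def]
    rw [comp_mul, lift_fst_assoc, lift_snd_assoc, Category.id_comp, Category.id_comp] at h1
    exact h1
  have h2 : φ₂ = φ₁⁻¹ := (inv_eq_of_mul_eq_one_right h12).symm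
  have hφ₁ : σ ≫ φ₁.left = η[A].left := by
    have h3 : p ≫ φ₁ = η[A] := by
      rw [← hdiag]
      change p ≫ lift (𝟙 _) (toUnit (Over.mk f) ≫ p) ≫ φ = _
      rw [comp_lift_assoc, Category.comp_id, ← Category.assoc, toUnit_unique (p ≫ toUnit _) (𝟙 _),
        Category.id_comp]
    have h4 := congrArg (fun q => q.left) h3
    have h5 : p.left = σ := Category.id_comp σ
    rw [← h5]
    exact h4
  obtain ⟨χ, ⟨hχ, hχj⟩, huniq⟩ := existsUnique hdim hg σ hσ J ψ hJ j hj A φ₁ hφ₁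
  refine ⟨χ, ⟨hχ, ?_⟩, ?_⟩
  · rw [mul_comp, GrpObj.inv_comp, Category.assoc, Category.assoc, hχj, hdec', h2, GrpObj.comp_inv]
  · rintro χ' ⟨h3, h4⟩
    refine huniq χ' ⟨h3, ?_⟩
    have h5 : lift (𝟙 _) (toUnit (Over.mk f) ≫ p) ≫
        ((fst (Over.mk f) (Over.mk f) ≫ j) * (snd (Over.mk f) (Over.mk f) ≫ j)⁻¹) = j := by
      rw [comp_mul, GrpObj.comp_inv, lift_fst_assoc, lift_snd_assoc, Category.id_comp,
        Category.assoc, hpj, inv_one, _root_.mul_one]
    calc j ≫ χ' = (lift (𝟙 _) (toUnit (Over.mk f) ≫ p) ≫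
        ((fst (Over.mk f) (Over.mk f) ≫ j) * (snd (Over.mk f) (Over.mk f) ≫ j)⁻¹)) ≫ χ' := by rw [h5]
      _ = φ₁ := by rw [Category.assoc, h4]

end K531.AlbMain
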