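import Groth.Agent.S0386
import Mathlib.AlgebraicGeometry.Sites.Fpqc
import Mathlib.AlgebraicGeometry.Morphisms.UniversallyOpen
import Mathlib.AlgebraicGeometry.FunctionField

/-!
# Descending a morphism to an open subscheme along a dominant morphism

`exists_flat_open`: a morphism locally of finite presentation to an integral scheme, from an
irreducible scheme, sending the generic point to the generic point, is flat on a nonempty open.

`exists_desc_open`: let `f : X ⟶ Y` be such a morphism, `W` a nonempty open of `X` and `e : X ⟶ Z`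
a morphism constant on the fibres of `f` over `W` (functorially). Then `e` descends to a nonempty
open subscheme of `Y`, on a nonempty open of `X`.
-/

set_option autoImplicit false
set_option backward.isDefEq.respectTransparency false
universe u
open CategoryTheory CategoryTheory.Limits AlgebraicGeometry

namespace K531.FlatDesc

/-- generic flatness at the generic point -/
theorem exists_flat_open {X Y : Scheme.{u}} [IrreducibleSpace X] [IsIntegral Y] (f : X ⟶ Y)
    [LocallyOfFinitePresentation f] (hf : f (genericPoint X) = genericPoint Y) (W : X.Opens)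
    (hW : (W : Set X).Nonempty) :
    ∃ V : X.Opens, V ≤ W ∧ (V : Set X).Nonempty ∧ Flat (V.ι ≫ f) := by
  let F : X.Opens := ⟨{x | (f.stalkMap x).hom.Flat}, Groth.Agent.S0386.result f⟩
  have hgen : genericPoint X ∈ F := by
    change (f.stalkMap (genericPoint X)).hom.Flat
    have hfield : IsField (Y.presheaf.stalk (f (genericPoint X))) := by
      rw [hf]; exact Field.toIsField _
    algebraize [(f.stalkMap (genericPoint X)).hom]
    let _ := hfield.toField
    change Module.Flat _ _
    infer_instance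
  refine ⟨F ⊓ W, inf_le_right, ⟨genericPoint X, hgen, ?_⟩, ?_⟩
  · exact ((genericPoint_spec X).mem_open_set_iff W.isOpen).mpr (by simpa using hW)
  · apply Flat.of_stalkMap
    intro x
    rw [Scheme.Hom.stalkMap_comp]
    have h1 : (f.stalkMap ((F ⊓ W).ι x)).hom.Flat := x.2.1
    have h2 : ((F ⊓ W).ι.stalkMap x).hom.Flat := Flat.stalkMap _ _
    exact RingHom.Flat.comp h1 h2

theorem exists_desc_open {X Y Z : Scheme.{u}} [IrreducibleSpace X] [IsIntegral Y] (f : X ⟶ Y)
    [LocallyOfFinitePresentation f] (hf : f (genericPoint X) = genericPoint Y) (W : X.Opens)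
    (hW : (W : Set X).Nonempty) (e : X ⟶ Z)
    (he : ∀ (T : Scheme.{u}) (a b : T ⟶ W), a ≫ W.ι ≫ f = b ≫ W.ι ≫ f →
      a ≫ W.ι ≫ e = b ≫ W.ι ≫ e) :
    ∃ (V : X.Opens) (U : Y.Opens) (q : (V : Scheme.{u}) ⟶ U) (u : (U : Scheme.{u}) ⟶ Z),
      (V : Set X).Nonempty ∧ (U : Set Y).Nonempty ∧ q ≫ U.ι = V.ι ≫ f ∧ q ≫ u = V.ι ≫ e ∧
        Epi q := by
  obtain ⟨V, hVW, hV, hfl⟩ := exists_flat_open f hf W hW
  let g : (V : Scheme.{u}) ⟶ Y := V.ι ≫ f
  have : LocallyOfFinitePresentation g := inferInstance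
  have hopen : IsOpenMap g := g.isOpenMap
  let U : Y.Opens := ⟨Set.range g, hopen.isOpen_range⟩
  let q : (V : Scheme.{u}) ⟶ U := IsOpenImmersion.lift U.ι g (by simp [U])
  have hq : q ≫ U.ι = g := IsOpenImmersion.lift_fac _ _ _
  have hqf : Flat q := by
    have : Flat (q ≫ U.ι) := by rw [hq]; exact hfl
    exact MorphismProperty.of_postcomp (@Flat.{u}) (W' := @IsOpenImmersion.{u}) q U.ι inferInstance this
  have hqp : LocallyOfFinitePresentation q := by
    have : LocallyOfFinitePresentation (q ≫ U.ι) := by rw [hq]; infer_instance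
    exact MorphismProperty.of_postcomp (@LocallyOfFinitePresentation.{u})
      (W' := @IsOpenImmersion.{u}) q U.ι inferInstance this
  have hqs : Surjective q := by
    constructor
    intro y
    obtain ⟨x, hx⟩ : U.ι y ∈ Set.range g := y.2
    refine ⟨x, U.ι.isOpenEmbedding.injective ?_⟩
    rw [← Scheme.Hom.comp_apply, hq, hx]
  have hcomp : X.homOfLE hVW ≫ W.ι = V.ι := X.homOfLE_ι hVW
  have hdesc : ∀ {T : Scheme.{u}} (a b : T ⟶ V), a ≫ q = b ≫ q → a ≫ V.ι ≫ e = b ≫ V.ι ≫ e := by
    intro T a b hab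
    have h1 := he T (a ≫ X.homOfLE hVW) (b ≫ X.homOfLE hVW) (by
      have h2 : a ≫ V.ι ≫ f = b ≫ V.ι ≫ f := by
        change a ≫ g = b ≫ g
        rw [← hq, reassoc_of% hab]
      simpa using h2)
    simpa using h1
  refine ⟨V, U, q, EffectiveEpi.desc q (V.ι ≫ e) hdesc, hV, ?_, hq, EffectiveEpi.fac _ _ hdesc,
    inferInstance⟩
  obtain ⟨x, hx⟩ := hV
  exact ⟨g ⟨x, hx⟩, ⟨_, rfl⟩⟩

end K531.FlatDesc
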