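import Groth.Agent.JacVar.K531.SurjSum
import Groth.Agent.JacVar.K531.FlatDesc
import Groth.Agent.Flat2D.LfpComp
import Groth.Agent.AbVar.K505.Ext
import Groth.Agent.Sga3.H780.Pointed

/-!
# The Albanese property of the Jacobian

`existsUnique_hom`: every pointed morphism from the curve to a proper commutative group scheme factors
uniquely through the Abel map by a homomorphism `J ⟶ A`. The input is a nonempty open `W` of the power
`C^n` (`n ≥ 1`, `n > -χ(O)`) on which `h⁰(O(∑ x_i)) = 1`, `h¹ = 0` and the `x_i` are distinct.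
-/

set_option autoImplicit false
set_option backward.isDefEq.respectTransparency false
universe u
open CategoryTheory CategoryTheory.Limits AlgebraicGeometry Opposite TopologicalSpace MonObj
  MonoidalCategory CartesianMonoidalCategory

namespace K531.Albanese

open Groth.Agent
open Groth.Agent.Grpsch Groth.Agent.Grpsch.PicGrp Groth.Agent.Fga.RigGrp Groth.Agent.Fga.JacSum
open Groth.Agent.Picfga Groth.Agent.Picfga.ChiDef Groth.Agent.Picfga.P1Def Groth.Agent.Picfga.PicGood
open Groth.Agent.Sga7.H732 Groth.Agent.Sga7.H732.Abel K531.SumEq K531.Pow K531.SurjSum K531.Perm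

theorem map_genericPoint_of_surjective {X Y : Scheme.{u}} [IrreducibleSpace X] [IrreducibleSpace Y]
    (f : X ⟶ Y) [Surjective f] : f (genericPoint X) = genericPoint Y := by
  have h1 := (genericPoint_spec X).image f.continuous
  rw [Set.image_univ, (Surjective.surj (f := f)).range_eq, closure_univ] at h1
  exact h1.eq (genericPoint_spec Y)

section good

variable {k : Type u} [Field k] {C : Scheme.{u}} {f : C ⟶ Spec (CommRingCat.of k)} (P : P1Data f)

theorem good_congr {T : Over (Spec (CommRingCat.of k))} {M N : (PicF.XT f T).Modules} (e : M ≅ N)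
    {t : T.left} (h : Good P T M t) : Good P T N t :=
  ⟨h1van_of_iso P ((Scheme.Modules.pullback (PicF.XTmap f (ptHom T t))).mapIso e) h.1,
    h0one_of_iso f ((Scheme.Modules.pullback (PicF.XTmap f (ptHom T t))).mapIso e) h.2⟩

/-- `Good` in terms of the class. -/
def GoodCl (T : Over (Spec (CommRingCat.of k))) (c : Pic (PicF.XT f T)) (t : T.left) : Prop :=
  ∀ (N : (PicF.XT f T).Modules) (hN : PicF.IsInvertible N), mk N hN = c → Good P T N t

theorem goodCl_mk_iff {T : Over (Spec (CommRingCat.of k))} (N : (PicF.XT f T).Modules)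
    (hN : PicF.IsInvertible N) (t : T.left) : GoodCl P T (mk N hN) t ↔ Good P T N t := by
  refine ⟨fun h => h N hN rfl, fun h M hM hMN => ?_⟩
  obtain ⟨e⟩ := (mk_eq_iff hM hN).mp hMN
  exact good_congr P e.symm h

theorem goodCl_pull_iff {T T' : Over (Spec (CommRingCat.of k))} (g : T' ⟶ T) (c : Pic (PicF.XT f T))
    (t : T'.left) : GoodCl P T' (pull (PicF.XTmap f g) c) t ↔ GoodCl P T c (g.left t) := by
  induction c using PicGrp.ind with | _ N hN => ?_
  rw [pull_mk, goodCl_mk_iff, goodCl_mk_iff]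
  exact good_pb_iff P g N hN t

theorem isOpen_goodCl (T : Over (Spec (CommRingCat.of k))) (c : Pic (PicF.XT f T)) :
    IsOpen {t | GoodCl P T c t} := by
  induction c using PicGrp.ind with | _ N hN => ?_
  simp only [goodCl_mk_iff]
  rw [isOpen_iff_forall_mem_open]
  intro t ht
  obtain ⟨U, s, htU, -, hs, hv⟩ := PicCBC.cbc P T N hN t ht
  refine ⟨U, ?_, U.2, htU⟩
  intro t' ht'
  let T₀ : Over (Spec (CommRingCat.of k)) := Over.mk (U.ι ≫ T.hom)
  let t₀ : T₀.left := (⟨t', ht'⟩ : U)
  have h1 : Good P T₀ (pb f (OverRep.res T U) N) t₀ :=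
    ⟨hv _ (ptHom T₀ t₀) inferInstance, _, hs _ (ptHom T₀ t₀) inferInstance⟩
  exact (good_pb_iff P (OverRep.res T U) N hN t₀).mp h1

end good

variable {k : Type u} [Field k] {C : Scheme.{u}} {f : C ⟶ Spec (CommRingCat.of k)}
  {σ : Spec (CommRingCat.of k) ⟶ C} {hσ : σ ≫ f = 𝟙 _} {J : Over (Spec (CommRingCat.of k))}
  [GrpObj J] [IsCommMonObj J] {ξ : Pic (PicF.XT f J)} (hJ : Hedge.IsJac f σ hσ J ξ)
  [SmoothOfRelativeDimension 1 f] [IsSeparated f] [QuasiCompact f]
  {α : Over.mk f ⟶ J} (hα : ∀ (T : Over (Spec (CommRingCat.of k))) (z : Pt f T),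
      cls hJ T (Abel.ptHom z ≫ α) = acl f σ hσ z)

omit [QuasiCompact f] in
include hJ hα in
/-- The sum map is constant on the fibres of the Abel sum map over the good locus. -/
theorem sumHom_comp_eq [Surjective f] (P : P1Data f) {n : ℕ} {Z : Over (Spec (CommRingCat.of k))}
    (x : Fin n → Pt f Z) (W : Z.left.Opens) (hWg : ∀ z ∈ W, GoodCl P Z (∏ i, gcl f (x i))⁻¹ z)
    (hWd : ∀ z ∈ W, Dist f x z) {A : Over (Spec (CommRingCat.of k))} [GrpObj A] [IsCommMonObj A]
    (φ : Over.mk f ⟶ A) (T : Scheme.{u}) (a b : T ⟶ W)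
    (hab : a ≫ W.ι ≫ (sumHom α x).left = b ≫ W.ι ≫ (sumHom α x).left) :
    a ≫ W.ι ≫ (sumHom φ x).left = b ≫ W.ι ≫ (sumHom φ x).left := by
  let T' : Over (Spec (CommRingCat.of k)) := Over.mk (a ≫ W.ι ≫ Z.hom)
  let g₁ : T' ⟶ Z := Over.homMk (a ≫ W.ι) (by simp [T'])
  let g₂ : T' ⟶ Z := Over.homMk (b ≫ W.ι) (by
    have h1 := congrArg (· ≫ J.hom) hab
    simp only [Category.assoc, Over.w] at h1
    simp only [T', Over.mk_hom, Category.assoc, h1])
  have h1 : g₁ ≫ sumHom α x = g₂ ≫ sumHom α x := by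
    ext1
    simpa [g₁, g₂] using hab
  have h2 : g₁ ≫ sumHom φ x = g₂ ≫ sumHom φ x := by
    rw [comp_sumHom, comp_sumHom] at h1 ⊢
    have h3 := congrArg (cls hJ T') h1
    rw [cls_sumHom hJ hα, cls_sumHom hJ hα] at h3
    obtain ⟨c, hc⟩ := exists_of_prod_acl_eq f σ hσ _ _ h3
    refine sumHom_eq φ P _ _ c hc ?_ ?_ ?_
    · intro t N hN hNc
      have h4 : mk N hN = pull (PicF.XTmap f g₁) (∏ i, gcl f (x i))⁻¹ := by
        rw [hNc, map_inv, map_prod]
        congr 1
        exact Finset.prod_congr rfl fun i _ => (pull_gcl f (x i) g₁).symm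
      have h5 := (goodCl_pull_iff P g₁ (∏ i, gcl f (x i))⁻¹ t).mpr (hWg _ (a t).2)
      exact h5 N hN h4
    · intro t
      exact (dist_comp_iff f g₁ x t).mpr (hWd _ (a t).2)
    · intro t
      exact (dist_comp_iff f g₂ x t).mpr (hWd _ (b t).2)
  have h3 := congrArg (fun q => q.left) h2
  simpa [g₁, g₂] using h3

omit [SmoothOfRelativeDimension 1 f] [IsSeparated f] [QuasiCompact f] [GrpObj J] [IsCommMonObj J] in
theorem left_ext {T A : Over (Spec (CommRingCat.of k))} {a b : T ⟶ A} (h : a.left = b.left) : a = b := by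
  ext1; exact h

omit [SmoothOfRelativeDimension 1 f] [IsSeparated f] [QuasiCompact f] in
/-- The family `(id, σ, …, σ)`. -/
theorem sumHom_cons_ofSection {A : Over (Spec (CommRingCat.of k))} [GrpObj A] [IsCommMonObj A]
    (φ : Over.mk f ⟶ A) (T : Over (Spec (CommRingCat.of k)))
    (hφ : Abel.ptHom (Pt.ofSection hσ T) ≫ φ = 1) {n : ℕ} (y : Pt f T) :
    sumHom φ (Fin.cons y (fun _ => Pt.ofSection hσ T) : Fin (n + 1) → Pt f T) = Abel.ptHom y ≫ φ := by
  unfold sumHom
  rw [Fin.prod_univ_succ]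
  simp only [Fin.cons_zero, Fin.cons_succ, hφ, Finset.prod_const_one, _root_.mul_one]

omit [SmoothOfRelativeDimension 1 f] [IsSeparated f] [QuasiCompact f] in
theorem sumHom_const_ofSection {A : Over (Spec (CommRingCat.of k))} [GrpObj A] [IsCommMonObj A]
    (φ : Over.mk f ⟶ A) (T : Over (Spec (CommRingCat.of k)))
    (hφ : Abel.ptHom (Pt.ofSection hσ T) ≫ φ = 1) {n : ℕ} :
    sumHom φ (fun _ : Fin n => Pt.ofSection hσ T) = 1 := by
  unfold sumHom
  simp only [hφ, Finset.prod_const_one]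

include hJ hα in
theorem existsUnique_hom [Surjective f] (P : P1Data f) [Smooth J.hom] [ConnectedSpace J.left]
    {n : ℕ} {Z : Over (Spec (CommRingCat.of k))} {x : Fin (n + 1) → Pt f Z} (hZ : IsPow f Z x)
    [LocallyOfFinitePresentation Z.hom] [IsIntegral Z.left]
    (hsurj : Surjective (sumHom α x).left) (W : Z.left.Opens) (hW : (W : Set Z.left).Nonempty)
    (hWg : ∀ z ∈ W, GoodCl P Z (∏ i, gcl f (x i))⁻¹ z) (hWd : ∀ z ∈ W, Dist f x z)
    (A : Over (Spec (CommRingCat.of k))) [GrpObj A] [IsCommMonObj A] [IsProper A.hom]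
    (φ : Over.mk f ⟶ A) (hφ : ∀ T, Abel.ptHom (Pt.ofSection hσ T) ≫ φ = 1) :
    ∃! χ : J ⟶ A, IsMonHom χ ∧ α ≫ χ = φ := by
  have hJint : IsIntegral J.left := Sga3.H780.Pointed.isIntegral J
  have hlfp : LocallyOfFinitePresentation (sumHom α x).left := by
    have h1 : LocallyOfFinitePresentation ((sumHom α x).left ≫ J.hom) := by
      rw [Over.w]; infer_instance
    exact Flat2D.LfpComp.lfp_of_comp _ J.hom
  -- homomorphisms are determined by their restriction to the curve
  have hcomp : ∀ χ : J ⟶ A, IsMonHom χ → α ≫ χ = φ → sumHom α x ≫ χ = sumHom φ x := by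
    intro χ hχ h1
    have h2 : ∀ (m : ℕ) (y : Fin m → Pt f Z), sumHom α y ≫ χ = sumHom φ y := by
      intro m y
      unfold sumHom
      induction m with
      | zero =>
        rw [Fin.prod_univ_zero, Fin.prod_univ_zero]
        exact one_comp χ
      | succ m ih =>
        rw [Fin.prod_univ_succ, Fin.prod_univ_succ, mul_comp, ih (fun i => y i.succ),
          Category.assoc, h1]
    exact h2 _ x
  have hcancel : ∀ χ χ' : J ⟶ A, sumHom α x ≫ χ = sumHom α x ≫ χ' → χ = χ' := by
    intro χ χ' h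
    apply left_ext
    have hdom : IsDominant (sumHom α x).left := inferInstance
    refine ext_of_isDominant_of_isSeparated A.hom ((Over.w χ).trans (Over.w χ').symm)
      (sumHom α x).left ?_
    exact congrArg (fun q => q.left) h
  obtain ⟨V, U, q, u, hV, hU, hqa, hqu, hepi⟩ := FlatDesc.exists_desc_open (sumHom α x).left
    (map_genericPoint_of_surjective _) W hW (sumHom φ x).left
    (fun T a b hab => sumHom_comp_eq hJ hα P x W hWg hWd φ T a b hab)
  have hu : u ≫ A.hom = U.ι ≫ J.hom := by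
    rw [← cancel_epi q, reassoc_of% hqu, reassoc_of% hqa, Over.w, Over.w]
  obtain ⟨g, hg, hgu⟩ := K505.Ext.exists_extension J.left J.hom A U hU u hu
  let χ : J ⟶ A := Over.homMk g hg
  have hχ : sumHom α x ≫ χ = sumHom φ x := by
    apply left_ext
    have hdom : IsDominant V.ι := by
      constructor
      change Dense (Set.range V.ι)
      rw [Scheme.Opens.range_ι]
      exact V.2.dense hV
    refine ext_of_isDominant_of_isSeparated A.hom (by rw [Over.w, Over.w]) V.ι ?_
    change V.ι ≫ (sumHom α x).left ≫ g = V.ι ≫ (sumHom φ x).left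
    rw [← reassoc_of% hqa, hgu, hqu]
  have key : ∀ (T : Over (Spec (CommRingCat.of k))) (y : Fin (n + 1) → Pt f T),
      sumHom α y ≫ χ = sumHom φ y := by
    intro T y
    obtain ⟨s, hs, -⟩ := hZ T y
    have h1 : ∀ {B : Over (Spec (CommRingCat.of k))} [GrpObj B] [IsCommMonObj B] (ψ : Over.mk f ⟶ B),
        s ≫ sumHom ψ x = sumHom ψ y := by
      intro B _ _ ψ
      rw [comp_sumHom]
      congr 1
      exact funext hs
    rw [← h1 α, Category.assoc, hχ, h1]
  have hα1 : ∀ T, Abel.ptHom (Pt.ofSection hσ T) ≫ α = 1 := fun T => ptHom_ofSection hJ hα T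
  have hη : η[J] ≫ χ = η[A] := by
    have h1 := key (𝟙_ (Over (Spec (CommRingCat.of k)))) (fun _ => Pt.ofSection hσ _)
    rw [sumHom_const_ofSection α _ (hα1 _), sumHom_const_ofSection φ _ (hφ _)] at h1
    have h2 : (1 : 𝟙_ (Over (Spec (CommRingCat.of k))) ⟶ J) = η[J] := by
      rw [Hom.one_def, toUnit_unit, Category.id_comp]
    have h3 : (1 : 𝟙_ (Over (Spec (CommRingCat.of k))) ⟶ A) = η[A] := by
      rw [Hom.one_def, toUnit_unit, Category.id_comp]
    rwa [h2, h3] at h1
  have hmon : IsMonHom χ := Sga3.H780.Pointed.isMonHom_of_pointed J A χ hη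
  have hαχ : α ≫ χ = φ := by
    have h1 := key (Over.mk f) (Fin.cons idPt (fun _ => Pt.ofSection hσ _))
    rw [sumHom_cons_ofSection α _ (hα1 _), sumHom_cons_ofSection φ _ (hφ _)] at h1
    have h2 : Abel.ptHom (idPt (f := f)) = 𝟙 _ := rfl
    rwa [h2, Category.id_comp, Category.id_comp] at h1
  refine ⟨χ, ⟨hmon, hαχ⟩, ?_⟩
  rintro χ' ⟨h1, h2⟩
  exact hcancel _ _ ((hcomp χ' h1 h2).trans (hcomp χ hmon hαχ).symm)

end K531.Albanese
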