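import Groth.Agent.JacVar.K531.UnitGood
import Groth.Agent.JacVar.K531.AlbMain
import Groth.Agent.JacVar.K532.Wr

/-!
# General position on the fibre powers of a curve over an algebraically closed field

* `isPow_widePullback`: the wide pullback with its projections is a power.
* `exists_open_pow`: for `r ≤ g` there is a nonempty open `U ⊂ C^r` such that `h⁰(O(x_1 + ⋯ + x_r)) = 1` for
  the rational points of `U`; for `r = g` the points are moreover distinct (`exists_open_pow_dist`).
-/

set_option autoImplicit false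
universe u
open CategoryTheory CategoryTheory.Limits AlgebraicGeometry Opposite TopologicalSpace
open MonoidalCategory CartesianMonoidalCategory

namespace K531.GenPos

open Groth.Agent
open Groth.Agent.Grpsch Groth.Agent.Grpsch.PicGrp Groth.Agent.Fga.RigGrp Groth.Agent.Fga.JacSum
open Groth.Agent.Fga Groth.Agent.Fga.JacAlg Groth.Agent.Fga.JacFactor
open Groth.Agent.Picfga Groth.Agent.Picfga.ChiDef Groth.Agent.Picfga.P1Def Groth.Agent.Picfga.PicGood
open K531.Pow K531.Perm K531.Albanese K531.GoodHH K531.GoodPt Groth.Agent.Fdesc.LocGen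
open K532.CurvePic K532.UnitBase K532.CurvePts K532.KPts K532.Wr K531.UnitGood

section gen

variable {X S : Scheme.{u}} (f : X ⟶ S)

/-- The coordinates of the wide pullback. -/
noncomputable def coord (n : ℕ) (i : Fin n) : Pt f (Over.mk (WidePullback.base fun (_ : Fin n) => f)) :=
  ⟨WidePullback.π (fun (_ : Fin n) => f) i, WidePullback.π_arrow (fun (_ : Fin n) => f) i⟩

theorem isPow_widePullback (n : ℕ) :
    IsPow f (Over.mk (WidePullback.base fun (_ : Fin n) => f)) (coord f n) := by
  intro T y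
  refine ⟨Over.homMk (WidePullback.lift T.hom (fun i => (y i).1) (fun i => (y i).2)) (WidePullback.lift_base _ _ _ _),
    fun i => Subtype.ext (WidePullback.lift_π _ _ _ _ _), fun g hg => ?_⟩
  apply Over.OverMorphism.ext
  apply WidePullback.hom_ext
  · intro i
    exact (congrArg Subtype.val (hg i)).trans
      (WidePullback.lift_π (fun (_ : Fin n) => f) T.hom (fun i => (y i).1) (fun i => (y i).2) i).symm
  · exact (Over.w g).trans
      (WidePullback.lift_base (fun (_ : Fin n) => f) T.hom (fun i => (y i).1) (fun i => (y i).2)).symm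

end gen

section curve

variable {k : Type u} [Field k] {X : Scheme.{u}} [X.Over (Spec (CommRingCat.of k))] (hX : IsCurve k X)

/-- The class of a family of points at a rational point of the base. -/
theorem pull_prod_gcl [SmoothOfRelativeDimension 1 (X ↘ Spec (CommRingCat.of k))]
    [IsSeparated (X ↘ Spec (CommRingCat.of k))] {n : ℕ}
    (Z : Over (Spec (CommRingCat.of k))) (x : Fin n → Pt (X ↘ Spec (CommRingCat.of k)) Z)
    (a : 𝟙_ (Over (Spec (CommRingCat.of k))) ⟶ Z) (y : Fin n → KPt k X) (hy : ∀ i, a.left ≫ (x i).1 = (y i).1) :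
    pull (ui (X ↘ Spec (CommRingCat.of k))) (pull (PicF.XTmap (X ↘ Spec (CommRingCat.of k)) a)
      (∏ i, gcl (X ↘ Spec (CommRingCat.of k)) (x i))⁻¹) = ∏ i, (pcl hX (y i))⁻¹ := by
  rw [map_inv, map_inv, map_prod, map_prod, Finset.prod_inv_distrib]
  congr 1
  refine Finset.prod_congr rfl fun i _ => ?_
  rw [pull_gcl]
  have h1 : (x i).comp a = pt (X ↘ Spec (CommRingCat.of k)) (y i).1 (y i).2 := Subtype.ext (hy i)
  rw [h1, pull_ui_gcl]
  rfl

/-- General position on the `g`-fold power. -/
theorem exists_open_gen (hX : IsCurve k X) [IsProper (X ↘ Spec (CommRingCat.of k))]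
    [Smooth (X ↘ Spec (CommRingCat.of k))]
    [GeometricallyConnected (X ↘ Spec (CommRingCat.of k))]
    (σ : Spec (CommRingCat.of k) ⟶ X) (hσ : σ ≫ (X ↘ Spec (CommRingCat.of k)) = 𝟙 _) :
    ∃ W : (widePullback (Spec (CommRingCat.of k)) (fun _ : Fin (gen k X) => X)
        (fun _ => (X ↘ Spec (CommRingCat.of k)))).Opens,
      (W : Set ↥(widePullback (Spec (CommRingCat.of k)) (fun _ : Fin (gen k X) => X)
        (fun _ => (X ↘ Spec (CommRingCat.of k))))).Nonempty ∧
      ∀ (a : 𝟙_ (Over (Spec (CommRingCat.of k))) ⟶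
          Over.mk (WidePullback.base fun (_ : Fin (gen k X)) => (X ↘ Spec (CommRingCat.of k)))),
        pa a ∈ W → ∀ y : Fin (gen k X) → KPt k X,
          (∀ i, a.left ≫ WidePullback.π (fun (_ : Fin (gen k X)) => (X ↘ Spec (CommRingCat.of k))) i = (y i).1) →
          h k X 0 (∏ i, (pcl hX (y i))⁻¹) = 1 ∧ Function.Injective y := by
  have h1 : SmoothOfRelativeDimension 1 (X ↘ Spec (CommRingCat.of k)) := JacAlg.smoothOfRelDim hX.curve
  have hGI := K532.Base.geometricallyIntegral (X ↘ Spec (CommRingCat.of k))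
  obtain ⟨P⟩ := Picfga.CurveP1.exists_p1Data hX.curve
  have hint : IsIntegral (Over.mk (WidePullback.base fun (_ : Fin (gen k X)) => (X ↘ Spec (CommRingCat.of k)))).left :=
    isIntegral_pow (X ↘ Spec (CommRingCat.of k)) (gen k X)
  obtain ⟨W, hW, hg, hd⟩ := GoodPt.exists_open hX.dim P σ hσ (gen k X)
    (fun K _ t => AlbMain.chi_eq (f := (X ↘ Spec (CommRingCat.of k))) t)
    (isPow_widePullback (X ↘ Spec (CommRingCat.of k)) (gen k X))
  refine ⟨W, hW, fun a ha y hy => ⟨?_, ?_⟩⟩
  · have h2 := (goodCl_pt_iff hX P _ _ a).1 (hg _ ha)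
    rw [pull_prod_gcl hX _ (coord (X ↘ Spec (CommRingCat.of k)) (gen k X)) a y hy] at h2
    exact h2.2
  · intro i j hij
    have h2 := (dist_comp_iff (X ↘ Spec (CommRingCat.of k)) a (coord (X ↘ Spec (CommRingCat.of k)) (gen k X))
      (IsLocalRing.closedPoint k)).mpr (hd _ ha)
    apply h2
    have h3 : ∀ i, ((coord (X ↘ Spec (CommRingCat.of k)) (gen k X) i).comp a).1 = (y i).1 := hy
    dsimp only
    rw [h3, h3, hij]

variable [IsAlgClosed k]

/-- General position on the `r`-fold power for `r ≤ g`. -/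
theorem exists_open_pow (hX : IsCurve k X) [IsProper (X ↘ Spec (CommRingCat.of k))]
    [Smooth (X ↘ Spec (CommRingCat.of k))]
    [GeometricallyConnected (X ↘ Spec (CommRingCat.of k))]
    (σ : Spec (CommRingCat.of k) ⟶ X) (hσ : σ ≫ (X ↘ Spec (CommRingCat.of k)) = 𝟙 _) (r : ℕ) (hr : r ≤ gen k X) :
    ∃ U : (widePullback (Spec (CommRingCat.of k)) (fun _ : Fin r => X)
        (fun _ => (X ↘ Spec (CommRingCat.of k)))).Opens,
      (U : Set ↥(widePullback (Spec (CommRingCat.of k)) (fun _ : Fin r => X)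
        (fun _ => (X ↘ Spec (CommRingCat.of k))))).Nonempty ∧
      ∀ (a : 𝟙_ (Over (Spec (CommRingCat.of k))) ⟶
          Over.mk (WidePullback.base fun (_ : Fin r) => (X ↘ Spec (CommRingCat.of k)))),
        pa a ∈ U → ∀ y : Fin r → KPt k X,
          (∀ i, a.left ≫ WidePullback.π (fun (_ : Fin r) => (X ↘ Spec (CommRingCat.of k))) i = (y i).1) →
          h k X 0 (∏ i, (pcl hX (y i))⁻¹) = 1 ∧ Function.Injective y := by
  obtain ⟨W, hW, hWa⟩ := exists_open_gen hX σ hσ
  have hp : IsProper (Over.mk (WidePullback.base fun (_ : Fin (gen k X)) => (X ↘ Spec (CommRingCat.of k)))).hom :=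
    isProper_pow (X ↘ Spec (CommRingCat.of k)) (gen k X)
  obtain ⟨w, hw⟩ := exists_pa_mem
    (X := Over.mk (WidePullback.base fun (_ : Fin (gen k X)) => (X ↘ Spec (CommRingCat.of k)))) hW
    W.isOpen.isLocallyClosed
  let F : Fin (gen k X) → (Over.mk (WidePullback.base fun (_ : Fin r) => (X ↘ Spec (CommRingCat.of k))) ⟶
      Over.mk (X ↘ Spec (CommRingCat.of k))) :=
    fun i => if hi : i.1 < r then pr (X ↘ Spec (CommRingCat.of k)) r ⟨i.1, hi⟩
      else toUnit _ ≫ (w ≫ pr (X ↘ Spec (CommRingCat.of k)) (gen k X) i)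
  let m := tup F
  have hF : ∀ (a : 𝟙_ (Over (Spec (CommRingCat.of k))) ⟶
      Over.mk (WidePullback.base fun (_ : Fin r) => (X ↘ Spec (CommRingCat.of k)))) (i : Fin (gen k X)),
      (a ≫ m) ≫ pr (X ↘ Spec (CommRingCat.of k)) (gen k X) i =
        if hi : i.1 < r then a ≫ pr (X ↘ Spec (CommRingCat.of k)) r ⟨i.1, hi⟩
          else w ≫ pr (X ↘ Spec (CommRingCat.of k)) (gen k X) i := by
    intro a i
    rw [Category.assoc, tup_pr]
    dsimp only [F]
    split_ifs
    · rfl
    · rw [← Category.assoc]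
      have : a ≫ toUnit _ = 𝟙 _ := toUnit_unique _ _
      rw [this, Category.id_comp]
  have hmem : ∀ (a : 𝟙_ (Over (Spec (CommRingCat.of k))) ⟶
      Over.mk (WidePullback.base fun (_ : Fin r) => (X ↘ Spec (CommRingCat.of k)))),
      pa a ∈ m.left ⁻¹ᵁ W ↔ pa (a ≫ m) ∈ W := by
    intro a
    rw [pa_comp]
    rfl
  refine ⟨m.left ⁻¹ᵁ W, ?_, ?_⟩
  · let a₀ : 𝟙_ (Over (Spec (CommRingCat.of k))) ⟶
        Over.mk (WidePullback.base fun (_ : Fin r) => (X ↘ Spec (CommRingCat.of k))) :=
      tup (fun i : Fin r => w ≫ pr (X ↘ Spec (CommRingCat.of k)) (gen k X) (Fin.castLE hr i))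
    refine ⟨pa a₀, (hmem a₀).2 ?_⟩
    have h1 : a₀ ≫ m = w := by
      apply Over.OverMorphism.ext
      apply WidePullback.hom_ext
      · intro i
        have h2 := hF a₀ i
        have h3 : (a₀ ≫ m) ≫ pr (X ↘ Spec (CommRingCat.of k)) (gen k X) i =
            w ≫ pr (X ↘ Spec (CommRingCat.of k)) (gen k X) i := by
          rw [h2]
          split_ifs with hi
          · rw [tup_pr]
            rfl
          · rfl
        exact congrArg CommaMorphism.left h3
      · exact (Over.w (a₀ ≫ m)).trans (Over.w w).symm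
    rw [h1]
    exact hw
  · intro a ha y hy
    rw [hmem] at ha
    let y' : Fin (gen k X) → KPt k X := fun i => if hi : i.1 < r then y ⟨i.1, hi⟩
      else ⟨(w ≫ pr (X ↘ Spec (CommRingCat.of k)) (gen k X) i).left,
        Over.w (w ≫ pr (X ↘ Spec (CommRingCat.of k)) (gen k X) i)⟩
    have hy' : ∀ i : Fin r, y' (Fin.castLE hr i) = y i := by
      intro i
      dsimp only [y']
      rw [dif_pos (show (Fin.castLE hr i).1 < r from i.2)]
      rfl
    obtain ⟨h1, h2⟩ := hWa _ ha y' (by
      intro i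
      have h3 := congrArg CommaMorphism.left (hF a i)
      refine Eq.trans h3 ?_
      dsimp only [y']
      split_ifs with hi
      · exact hy ⟨i.1, hi⟩
      · rfl)
    refine ⟨?_, fun i j hij => ?_⟩
    · have h3 : ∏ i, (pcl hX (y' i))⁻¹ = (∏ i, (pcl hX (y i))⁻¹) *
          ∏ i ∈ Finset.univ \ Finset.univ.map (Fin.castLEEmb hr), (pcl hX (y' i))⁻¹ := by
        rw [← Finset.prod_sdiff (Finset.subset_univ (Finset.univ.map (Fin.castLEEmb hr))), mul_comm,
          Finset.prod_map]
        congr 1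
        refine Finset.prod_congr rfl fun i _ => ?_
        rw [Fin.coe_castLEEmb, hy']
      rw [h3] at h1
      have h4 := h0_le_mul hX (∏ i, (pcl hX (y i))⁻¹) _
        (h0_prod_pos hX (Finset.univ \ Finset.univ.map (Fin.castLEEmb hr)) (fun i => (pcl hX (y' i))⁻¹)
          fun i _ => h0_inv_pcl_pos hX (y' i))
      have h5 := h0_prod_pcl_pos hX y
      omega
    · have h3 := h2 (a₁ := Fin.castLE hr i) (a₂ := Fin.castLE hr j) (by rw [hy', hy', hij])
      exact Fin.castLE_injective hr h3

end curve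

section tensor

variable {Y : Scheme.{u}}

/-- The class of a product of invertible modules. -/
theorem mk_tensorList_ofFn {n : ℕ} (M : Fin n → Y.Modules) (hM : ∀ i, PicF.IsInvertible (M i)) :
    ∃ h : PicF.IsInvertible (FGA.tensorList (List.ofFn M)),
      mk (FGA.tensorList (List.ofFn M)) h = ∏ i, mk (M i) (hM i) := by
  induction n with
  | zero =>
    refine ⟨isInvertible_structureModule, ?_⟩
    rw [Finset.univ_eq_empty, Finset.prod_empty, one_def]
    rfl
  | succ n ih =>
    obtain ⟨h1, h2⟩ := ih (fun i => M i.succ) (fun i => hM i.succ)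
    have h3 : FGA.tensorList (List.ofFn M) =
        CohB1.tensorMod (M 0) (FGA.tensorList (List.ofFn fun i => M i.succ)) := by
      rw [List.ofFn_succ]
      rfl
    have h4 : PicF.IsInvertible (CohB1.tensorMod (M 0) (FGA.tensorList (List.ofFn fun i => M i.succ))) :=
      isInvertible_tensorMod (hM 0) h1
    refine ⟨by rw [h3]; exact h4, ?_⟩
    rw [Fin.prod_univ_succ, ← h2, mk_mul_mk]
    simp only [h3]

end tensor

end K531.GenPos
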