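import Groth.Agent.Picfga.PicCBC
import Groth.Agent.Picfga.ChiCech
import Groth.Agent.Picfga.ChiDef

/-!
# `Good` in terms of cohomology

`f : X ⟶ Spec k`, `P : P1Data f`, `t : Spec K ⟶ Spec k` a field-valued point, `M` on `X_K`.
`h1van_iff`: `H1van` iff `H¹(X_K, M) = 0`; `h0one_iff`: `H0one` iff `dim H⁰(X_K, M) = 1`.
`good_of_point`: `Good` at the image of a field-valued point.
-/

set_option autoImplicit false
set_option backward.isDefEq.respectTransparency false
universe u
open CategoryTheory CategoryTheory.Limits AlgebraicGeometry Opposite TopologicalSpace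

namespace K531.GoodHH

open Groth.Agent Groth.Agent.Picfga Groth.Agent.Picfga.P1Def Groth.Agent.Picfga.PicGood
open Groth.Agent.Picfga.ChiDef Groth.Agent.Picfga.ChiCech Groth.Agent.Fdesc.LocGen
open Groth.Agent.Grpsch

variable {k : Type u} [Field k] {X : Scheme.{u}} {f : X ⟶ Spec (CommRingCat.of k)} (P : P1Data f)
  {K : Type u} [Field K] (t : Spec (CommRingCat.of K) ⟶ Spec (CommRingCat.of k))

theorem h1van_iff (M : (PicF.XT f (Over.mk t)).Modules) (hM : PicF.IsInvertible M) :
    H1van P (Over.mk t) M ↔ Subsingleton (Coh.HH (PicF.XT f (Over.mk t)) M 1) := by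
  let _ := overK f t
  have : IsAffine (Over.mk t).left := inferInstanceAs (IsAffine (Spec _))
  have e := h1Equiv K M (Ega2.QCohLocal.isQCoh_of_isInvertible hM) (LatH0.UT_sup P (Over.mk t))
    (SecBC.isAffineOpen_UT f P.affine₀ (T := Over.mk t)) (SecBC.isAffineOpen_UT f P.affine₁)
  rw [← e.toEquiv.subsingleton_congr, Submodule.Quotient.subsingleton_iff,
    LinearMap.range_eq_top]
  constructor
  · intro h z
    obtain ⟨a, b, hab⟩ := h z
    refine ⟨(a, -b), ?_⟩
    rw [cechD_apply, map_neg, sub_neg_eq_add]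
    exact hab.symm
  · intro h z
    obtain ⟨⟨a, b⟩, hab⟩ := h z
    refine ⟨a, -b, ?_⟩
    rw [map_neg, ← sub_eq_add_neg]
    exact hab.symm

theorem h0one_iff (M : (PicF.XT f (Over.mk t)).Modules) :
    H0one f (Over.mk t) M ↔ (letI := overK f t; Module.finrank K (Coh.HH (PicF.XT f (Over.mk t)) M 0) = 1) := by
  let _ := overK f t
  change H0one f (Over.mk t) M ↔ Module.finrank K (Coh.HH (PicF.XT f (Over.mk t)) M 0) = 1
  rw [(h0Top K M).finrank_eq]
  have hstr : ∀ (c : K) (s : SecA K M ⊤), c • s = toSecA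
      (fn f (Over.mk t) ((Scheme.ΓSpecIso (CommRingCat.of K)).inv c) • toSecA.symm s) := by
    intro c s
    rw [smul_def]
    congr 2
    exact ores_refl _
  have hbij : Function.Bijective ((Scheme.ΓSpecIso (CommRingCat.of K)).inv : K → _) :=
    ConcreteCategory.bijective_of_isIso (Scheme.ΓSpecIso (CommRingCat.of K)).inv
  have h1 := KerBC.exists_gen_iff (0 : SecA K M ⊤ →ₗ[K] K)
  rw [LinearMap.ker_zero, finrank_top] at h1
  rw [← h1]
  constructor
  · rintro ⟨s, hs⟩
    refine ⟨toSecA s, trivial, fun x _ => ?_⟩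
    obtain ⟨c, hc, hcu⟩ := hs (toSecA.symm x)
    obtain ⟨c', rfl⟩ := hbij.2 c
    refine ⟨c', ?_, fun c'' hc'' => hbij.1 (hcu _ ?_)⟩
    · dsimp only
      rw [hstr]
      exact hc
    · dsimp only at hc''
      rw [hstr] at hc''
      exact hc''
  · rintro ⟨s, -, hs⟩
    refine ⟨toSecA.symm s, fun m => ?_⟩
    obtain ⟨c, hc, hcu⟩ := hs (toSecA m) trivial
    refine ⟨(Scheme.ΓSpecIso (CommRingCat.of K)).inv c, ?_, fun c'' hc'' => ?_⟩
    · rw [hstr] at hc
      exact hc
    · obtain ⟨c', rfl⟩ := hbij.2 c''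
      refine congrArg _ (hcu c' ?_)
      dsimp only
      rw [hstr]
      exact hc''

omit [Field K] in
theorem isField_Spec (K : Type u) [Field K] : IsField Γ(Spec (CommRingCat.of K), ⊤) :=
  ((Scheme.ΓSpecIso (CommRingCat.of K)).commRingCatIsoToRingEquiv.toMulEquiv).isField
    (Field.toIsField K)

/-- `Good` at the image of a field-valued point. -/
theorem good_iff_point {Z : Over (Spec (CommRingCat.of k))} (M : (PicF.XT f Z).Modules)
    (hM : PicF.IsInvertible M) (T : Over (Spec (CommRingCat.of k))) (e : T.left ≅ Spec (CommRingCat.of K))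
    (g : T ⟶ Z) (τ : T.left) :
    Good P Z M (g.left τ) ↔ H1van P T (pb f g M) ∧ H0one f T (pb f g M) := by
  have : IsAffine T.left := .of_isIso e.hom
  have hT : IsField Γ(T.left, ⊤) :=
    ((asIso e.hom.appTop).commRingCatIsoToRingEquiv.toMulEquiv).symm.isField (isField_Spec K)
  rw [← good_pb_iff P g M hM τ]
  exact and_congr
    (h1van_field_iff P (ptHom T τ) hT (isField_pt τ) _ (isInvertible_pullback _ hM))
    (h0one_field_iff P (ptHom T τ) hT (isField_pt τ) _ (isInvertible_pullback _ hM))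

end K531.GoodHH
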