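import Mathlib.Topology.Irreducible
import Mathlib.Topology.Constructions
import Mathlib.Combinatorics.Pigeonhole
import Mathlib.Data.Multiset.Powerset
import Mathlib.Algebra.BigOperators.Group.Finset.Basic
import Mathlib.Algebra.Order.Group.Multiset
import Mathlib.Data.Set.Finite.Lattice
import Mathlib.Tactic

/-!
# The combinatorial part of Torelli's theorem (Weil, Martens)

`G` an abelian group with a topology for which translations and the inverse are continuous; `W r`, `V r` two families of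
closed subsets with the formal properties of the images of the symmetric powers of a curve in its Jacobian and
`V (g-1) = W (g-1) + c`. Then `V 1` is contained in a translate of `W 1` or of `- W 1` (`main`).
-/

set_option autoImplicit false

namespace K531.Martens

variable {G : Type*} [AddCommGroup G] [TopologicalSpace G]

/-- The properties used of the family `V`. -/
structure VFam (g : ℕ) (κ : G) (V : ℕ → Set G) : Prop where
  closed : ∀ r, IsClosed (V r)
  zero_mem : ∀ r, (0 : G) ∈ V r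
  add_mem : ∀ r s x y, x ∈ V r → y ∈ V s → x + y ∈ V (r + s)
  div : ∀ z : G, (∃ v ∈ V 1, v - z ∉ V (g - 1)) → ∃ D : Multiset G, Multiset.card D = g ∧ D.sum = z + κ ∧
    ∀ v, v ∈ D ↔ v ∈ V 1 ∧ v - z ∈ V (g - 1)

/-- The properties used of the family `W`. -/
structure WFam (g : ℕ) (κ : G) (W : ℕ → Set G) : Prop where
  closed : ∀ r, IsClosed (W r)
  irr : ∀ r, IsIrreducible (W r)
  zero_mem : ∀ r, (0 : G) ∈ W r
  add_mem : ∀ r s x y, x ∈ W r → y ∈ W s → x + y ∈ W (r + s)
  dual : ∀ r, r ≤ g - 1 → ∀ a, (∀ w ∈ W r, w + a ∈ W (g - 1)) → a ∈ W (g - 1 - r)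
  refl : ∀ x, x ∈ W (g - 1) → κ - x ∈ W (g - 1)
  inter : ∀ r, r ≤ g - 2 → ∀ x ∈ W 1, ∀ y ∈ W (g - 1 - r), (∃ w ∈ W (r + 1), w - x + y ∉ W (g - 1)) →
    ∀ c ∈ W (r + 1), c - x + y ∈ W (g - 1) → c - x ∈ W r ∨ κ - c - y ∈ W (g - 2)
  inf : (W 1).Infinite

variable {g : ℕ} {κ κ' : G} {V W : ℕ → Set G}

theorem VFam.sum_mem (hV : VFam g κ V) (s : Multiset G) (hs : ∀ v ∈ s, v ∈ V 1) : s.sum ∈ V (Multiset.card s) := by
  induction s using Multiset.induction_on with
  | empty => simpa using hV.zero_mem 0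
  | cons x s ih =>
    rw [Multiset.sum_cons, Multiset.card_cons, add_comm (Multiset.card s)]
    exact hV.add_mem _ _ _ _ (hs x (Multiset.mem_cons_self _ _)) (ih fun v hv => hs v (Multiset.mem_cons_of_mem hv))

theorem VFam.mono (hV : VFam g κ V) {r s : ℕ} (h : r ≤ s) : V r ⊆ V s := by
  intro x hx
  have := hV.add_mem _ _ _ _ hx (hV.zero_mem (s - r))
  rwa [add_zero, Nat.add_sub_cancel' h] at this

theorem WFam.mono (hW : WFam g κ W) {r s : ℕ} (h : r ≤ s) : W r ⊆ W s := by
  intro x hx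
  have := hW.add_mem _ _ _ _ hx (hW.zero_mem (s - r))
  rwa [add_zero, Nat.add_sub_cancel' h] at this

/-- The negated family. -/
theorem VFam.neg (hneg : Continuous fun x : G => -x) (hV : VFam g κ V) : VFam g (-κ) (fun r => {x | -x ∈ V r}) where
  closed r := (hV.closed r).preimage hneg
  zero_mem r := by
    change -0 ∈ V r
    rw [neg_zero]
    exact hV.zero_mem r
  add_mem r s x y hx hy := by
    change -(x + y) ∈ V (r + s)
    rw [neg_add]
    exact hV.add_mem r s _ _ hx hy
  div := by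
    rintro z ⟨v, hv, hvz⟩
    obtain ⟨D, h1, h2, h3⟩ := hV.div (-z) ⟨-v, hv, fun h => hvz (by
      change -(v - z) ∈ V (g - 1)
      rw [neg_sub, sub_eq_neg_add]
      rwa [sub_neg_eq_add] at h)⟩
    refine ⟨D.map fun x => -x, by rw [Multiset.card_map, h1], ?_, ?_⟩
    · have : (D.map fun x => -x).sum = - D.sum := Multiset.sum_map_neg' D
      rw [this, h2]
      abel
    · intro v
      rw [Multiset.mem_map]
      have h4 : (∃ a ∈ D, -a = v) ↔ -v ∈ D := by
        constructor
        · rintro ⟨a, ha, rfl⟩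
          rwa [neg_neg]
        · intro h
          exact ⟨-v, h, neg_neg v⟩
      rw [h4, h3]
      refine and_congr Iff.rfl ?_
      change _ ↔ -(v - z) ∈ V (g - 1)
      have : -(v - z) = -v - -z := by abel
      rw [this]

/-- At most `g` common points of `W 1` and a translate of `V 1` not contained in it. -/
theorem card_le (hg : 2 ≤ g) (hW : WFam g κ W) (hV : VFam g κ' V) (c : G)
    (hc : ∀ x, x ∈ V (g - 1) ↔ x - c ∈ W (g - 1)) (E : G) (hE : ¬ ∀ v ∈ V 1, v + E ∈ W 1)
    (X : Finset G) (hX : ∀ x ∈ X, x ∈ W 1 ∧ x - E ∈ V 1) : X.card ≤ g := by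
  classical
  push Not at hE
  obtain ⟨v₀, hv₀, hv₀E⟩ := hE
  have h1 : g - 1 - (g - 2) = 1 := by omega
  have h2 : ∃ w ∈ W (g - 2), w + (v₀ + E) ∉ W (g - 1) := by
    by_contra hcon
    push Not at hcon
    apply hv₀E
    have := hW.dual (g - 2) (by omega) (v₀ + E) hcon
    rwa [h1] at this
  obtain ⟨w, hw, hw'⟩ := h2
  obtain ⟨D, hD1, -, hD3⟩ := hV.div (-E - w - c) ⟨v₀, hv₀, fun h => hw' (by
    rw [hc] at h
    have : v₀ - (-E - w - c) - c = w + (v₀ + E) := by abel
    rwa [this] at h)⟩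
  have h3 : ∀ x ∈ X, x - E ∈ D.toFinset := by
    intro x hx
    obtain ⟨hx1, hx2⟩ := hX x hx
    rw [Multiset.mem_toFinset, hD3]
    refine ⟨hx2, ?_⟩
    rw [hc]
    have h4 : x - E - (-E - w - c) - c = x + w := by abel
    rw [h4]
    have h5 := hW.add_mem _ _ _ _ hx1 hw
    have h6 : 1 + (g - 2) = g - 1 := by omega
    rwa [h6] at h5
  calc X.card = (X.image fun x => x - E).card := (Finset.card_image_of_injective _ (sub_left_injective)).symm
    _ ≤ D.toFinset.card := Finset.card_le_card (by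
        intro y hy
        obtain ⟨x, hx, rfl⟩ := Finset.mem_image.1 hy
        exact h3 x hx)
    _ ≤ Multiset.card D := Multiset.toFinset_card_le D
    _ = g := hD1

/-- The main step. -/
theorem core (hg : 2 ≤ g) (ht : ∀ a : G, Continuous fun x : G => x + a) (hneg : Continuous fun x : G => -x)
    (hW : WFam g κ W) (hV : VFam g κ' V) (c : G)
    (hc : ∀ x, x ∈ V (g - 1) ↔ x - c ∈ W (g - 1)) (r : ℕ) (hr1 : 1 ≤ r) (hr2 : r ≤ g - 2) (a : G)
    (ha : ∀ v ∈ V 1, v - a ∈ W (r + 1)) (hmin1 : ∀ b, ∃ v ∈ V 1, v - b ∉ W r)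
    (hmin2 : ∀ b, ∃ v ∈ V 1, b - v ∉ W r) : False := by
  classical
  obtain ⟨n, hn⟩ : ∃ n, g - 1 - r = n := ⟨_, rfl⟩
  have hn' : g - 1 - n = r := by omega
  have hrn : r + n = g - 1 := by omega
  -- the first family of closed sets
  let F : G → Set G := fun x => {y | ∀ v ∈ V 1, v - a - x + y ∈ W (g - 1)}
  have hFc : ∀ x, IsClosed (F x) := by
    intro x
    have : F x = ⋂ v ∈ V 1, (fun y => y + (v - a - x)) ⁻¹' W (g - 1) := by
      ext y
      simp only [F, Set.mem_ofPred_eq, Set.mem_iInter, Set.mem_preimage]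
      refine forall₂_congr fun v _ => ?_
      rw [add_comm]
    rw [this]
    exact isClosed_biInter fun v _ => (hW.closed _).preimage (ht _)
  have hF : ∀ x, ¬ W n ⊆ F x := by
    intro x hx
    obtain ⟨v, hv, hvx⟩ := hmin1 (a + x)
    apply hvx
    have h1 := hW.dual n (by omega) (v - (a + x)) (fun w hw => by
      have := hx hw v hv
      rwa [sub_sub, add_comm] at this)
    rwa [hn'] at h1
  -- the second family of closed sets
  let F' : G → G → G → Set G := fun x v₁ v₂ => {y | a + x - c + κ' - v₁ - v₂ - y ∈ V (g - 2)}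
  have hFc' : ∀ x v₁ v₂, IsClosed (F' x v₁ v₂) := by
    intro x v₁ v₂
    have : F' x v₁ v₂ = (fun y => -y) ⁻¹' ((fun y => y + (a + x - c + κ' - v₁ - v₂)) ⁻¹' V (g - 2)) := by
      ext y
      simp only [F', Set.mem_ofPred_eq, Set.mem_preimage]
      rw [neg_add_eq_sub]
    rw [this]
    exact ((hV.closed _).preimage (ht _)).preimage hneg
  have hF' : ∀ x v₁ v₂, ¬ W n ⊆ F' x v₁ v₂ := by
    intro x v₁ v₂ hx
    obtain ⟨v, hv, hvx⟩ := hmin2 (κ - (a + x - c + κ' - v₁ - v₂) + c)
    apply hvx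
    have h1 := hW.dual n (by omega) (κ - (a + x - c + κ' - v₁ - v₂) + c - v) (fun w hw => by
      have h2 := hV.add_mem _ _ _ _ hv (hx hw)
      have h3 : 1 + (g - 2) = g - 1 := by omega
      rw [h3, hc] at h2
      have h4 := hW.refl _ h2
      have h5 : κ - (v + (a + x - c + κ' - v₁ - v₂ - w) - c) = w + (κ - (a + x - c + κ' - v₁ - v₂) + c - v) := by abel
      rwa [h5] at h4)
    rwa [hn'] at h1
  -- divisors
  have hdiv : ∀ x ∈ W 1, ∀ y ∈ W n, y ∉ F x → ∃ D : Multiset G, Multiset.card D = g ∧ D.sum = (a + x - y - c) + κ' ∧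
      ∀ v, v ∈ D ↔ v ∈ V 1 ∧ v - a - x + y ∈ W (g - 1) := by
    intro x hx y hy hyF
    simp only [F, Set.mem_ofPred_eq] at hyF
    push Not at hyF
    obtain ⟨v, hv, hvy⟩ := hyF
    have key : ∀ v, v - (a + x - y - c) ∈ V (g - 1) ↔ v - a - x + y ∈ W (g - 1) := by
      intro v
      rw [hc]
      have : v - (a + x - y - c) - c = v - a - x + y := by abel
      rw [this]
    obtain ⟨D, h1, h2, h3⟩ := hV.div (a + x - y - c) ⟨v, hv, fun h => hvy ((key v).1 h)⟩
    exact ⟨D, h1, h2, fun v => by rw [h3, key]⟩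
  -- the sets `A x`
  let A : G → Set G := fun x => {v | v ∈ V 1 ∧ v - a - x ∈ W r}
  have hA : ∀ x ∈ W 1, (A x).Finite := by
    intro x hx
    obtain ⟨y, hy, hyF⟩ := Set.not_subset.1 (hF x)
    obtain ⟨D, -, -, h3⟩ := hdiv x hx y hy hyF
    refine (D.toFinset.finite_toSet).subset ?_
    rintro v ⟨hv1, hv2⟩
    rw [Finset.mem_coe, Multiset.mem_toFinset, h3]
    refine ⟨hv1, ?_⟩
    have := hW.add_mem _ _ _ _ hv2 hy
    rwa [hrn] at this
  -- many points of `W 1`
  obtain ⟨X, hXW, hXc⟩ := hW.inf.exists_subset_card_eq (2 ^ (g * g) * g + 1)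
  -- a common `y`
  have hy : ∃ y ∈ W n, ∀ x ∈ X, y ∉ F x ∧ ∀ v₁ ∈ A x, ∀ v₂ ∈ A x, y ∉ F' x v₁ v₂ := by
    by_contra hcon
    push Not at hcon
    let S : Set (Set G) := (F '' (X : Set G)) ∪ ⋃ x ∈ (X : Set G), ⋃ v₁ ∈ A x, ⋃ v₂ ∈ A x, {F' x v₁ v₂}
    have hS : S.Finite := by
      refine (X.finite_toSet.image F).union (X.finite_toSet.biUnion fun x hx => ?_)
      exact (hA x (hXW hx)).biUnion fun v₁ _ => (hA x (hXW hx)).biUnion fun v₂ _ => Set.finite_singleton _
    obtain ⟨z, hz, hz'⟩ := (isIrreducible_iff_sUnion_isClosed.1 (hW.irr n)) hS.toFinset (by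
      intro z hz
      rw [Set.Finite.mem_toFinset] at hz
      rcases hz with ⟨x, -, rfl⟩ | hz
      · exact hFc x
      · simp only [Set.mem_iUnion, Set.mem_singleton_iff] at hz
        obtain ⟨x, -, v₁, -, v₂, -, rfl⟩ := hz
        exact hFc' x v₁ v₂) (by
      intro y hy
      obtain ⟨x, hx, hxy⟩ := hcon y hy
      by_cases hyF : y ∈ F x
      · exact ⟨F x, by rw [Set.Finite.coe_toFinset]; exact Or.inl ⟨x, hx, rfl⟩, hyF⟩
      · obtain ⟨v₁, hv₁, v₂, hv₂, h⟩ := hxy hyF
        refine ⟨F' x v₁ v₂, ?_, h⟩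
        rw [Set.Finite.coe_toFinset]
        refine Or.inr ?_
        simp only [Set.mem_iUnion, Set.mem_singleton_iff]
        exact ⟨x, hx, v₁, hv₁, v₂, hv₂, rfl⟩)
    rw [Set.Finite.mem_toFinset] at hz
    rcases hz with ⟨x, -, rfl⟩ | hz
    · exact hF x hz'
    · simp only [Set.mem_iUnion, Set.mem_singleton_iff] at hz
      obtain ⟨x, -, v₁, -, v₂, -, rfl⟩ := hz
      exact hF' x v₁ v₂ hz'
  obtain ⟨y, hyn, hyX⟩ := hy
  have hD : ∀ x : G, ∃ D : Multiset G, x ∈ X → Multiset.card D = g ∧ D.sum = (a + x - y - c) + κ' ∧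
      ∀ v, v ∈ D ↔ v ∈ V 1 ∧ v - a - x + y ∈ W (g - 1) := by
    intro x
    by_cases hx : x ∈ X
    · obtain ⟨D, hD⟩ := hdiv x (hXW hx) y hyn (hyX x hx).1
      exact ⟨D, fun _ => hD⟩
    · exact ⟨0, fun h => absurd h hx⟩
  choose D hD using hD
  let B : Set G := {v | v ∈ V 1 ∧ κ - (v - a) - y ∈ W (g - 2)}
  have hBD : ∀ x ∈ X, ∀ v ∈ B, v ∈ D x := by
    rintro x hx v ⟨hv1, hv2⟩
    rw [(hD x hx).2.2]
    refine ⟨hv1, ?_⟩
    have h1 := hW.add_mem _ _ _ _ (hXW hx) hv2
    have h3 : 1 + (g - 2) = g - 1 := by omega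
    rw [h3] at h1
    have h4 := hW.refl _ h1
    have h5 : κ - (x + (κ - (v - a) - y)) = v - a - x + y := by abel
    rwa [h5] at h4
  have hDA : ∀ x ∈ X, ∀ v ∈ D x, v ∉ B → v ∈ A x := by
    intro x hx v hv hvB
    rw [(hD x hx).2.2] at hv
    obtain ⟨hv1, hv2⟩ := hv
    refine ⟨hv1, ?_⟩
    have hyF := (hyX x hx).1
    simp only [F, Set.mem_ofPred_eq] at hyF
    push Not at hyF
    obtain ⟨v₀, hv₀, hv₀y⟩ := hyF
    rcases hW.inter r hr2 x (hXW hx) y (by rw [hn]; exact hyn) ⟨v₀ - a, ha v₀ hv₀, hv₀y⟩ (v - a) (ha v hv1) hv2 with h | h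
    · exact h
    · exact absurd ⟨hv1, h⟩ hvB
  -- outside `B` there is at most one point
  have hout : ∀ x ∈ X, Multiset.card ((D x).filter fun v => v ∉ B) ≤ 1 := by
    intro x hx
    by_contra hcon
    push Not at hcon
    obtain ⟨h1, h2, h3⟩ := hD x hx
    obtain ⟨v₁, hv₁⟩ := Multiset.card_pos_iff_exists_mem.1 (by omega : 0 < Multiset.card ((D x).filter fun v => v ∉ B))
    obtain ⟨s, hs⟩ := Multiset.exists_cons_of_mem hv₁
    have hs1 : 0 < Multiset.card s := by
      have := congrArg Multiset.card hs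
      rw [Multiset.card_cons] at this
      omega
    obtain ⟨v₂, hv₂⟩ := Multiset.card_pos_iff_exists_mem.1 hs1
    obtain ⟨s', rfl⟩ := Multiset.exists_cons_of_mem hv₂
    have hle : v₁ ::ₘ v₂ ::ₘ s' ≤ D x := hs ▸ Multiset.filter_le _ _
    obtain ⟨t, ht'⟩ := Multiset.le_iff_exists_add.1 hle
    have hm : ∀ v ∈ (v₁ ::ₘ v₂ ::ₘ s'), v ∈ A x := by
      intro v hv
      rw [← hs, Multiset.mem_filter] at hv
      exact hDA x hx v hv.1 hv.2
    have hm₁ := hm v₁ (by simp)
    have hm₂ := hm v₂ (by simp)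
    apply (hyX x hx).2 v₁ hm₁ v₂ hm₂
    change a + x - c + κ' - v₁ - v₂ - y ∈ V (g - 2)
    have h4 : (s' + t).sum = a + x - c + κ' - v₁ - v₂ - y := by
      have h5 : (D x).sum = v₁ + (v₂ + (s' + t).sum) := by
        rw [ht', Multiset.sum_add, Multiset.sum_cons, Multiset.sum_cons, Multiset.sum_add]
        abel
      rw [h2] at h5
      have : (s' + t).sum = (v₁ + (v₂ + (s' + t).sum)) - v₁ - v₂ := by abel
      rw [this, ← h5]
      abel
    rw [← h4]
    have h6 : Multiset.card (s' + t) = g - 2 := by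
      have := congrArg Multiset.card ht'
      rw [h1, Multiset.card_add, Multiset.card_cons, Multiset.card_cons] at this
      rw [Multiset.card_add]
      omega
    rw [← h6]
    apply hV.sum_mem
    intro v hv
    have h7 : v ∈ D x := by
      rw [ht']
      rcases Multiset.mem_add.1 hv with h | h
      · exact Multiset.mem_add.2 (Or.inl (by simp [h]))
      · exact Multiset.mem_add.2 (Or.inr h)
    exact ((h3 v).1 h7).1
  -- `B` is finite with at most `g` points
  have hXne : X.Nonempty := by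
    rw [← Finset.card_pos, hXc]
    omega
  obtain ⟨x₀, hx₀⟩ := hXne
  have hBfin : B.Finite := (((D x₀).toFinset).finite_toSet).subset fun v hv => by
    rw [Finset.mem_coe, Multiset.mem_toFinset]
    exact hBD x₀ hx₀ v hv
  have hBcard : hBfin.toFinset.card ≤ g := by
    calc hBfin.toFinset.card ≤ (D x₀).toFinset.card := Finset.card_le_card (by
          intro v hv
          rw [Set.Finite.mem_toFinset] at hv
          rw [Multiset.mem_toFinset]
          exact hBD x₀ hx₀ v hv)
      _ ≤ Multiset.card (D x₀) := Multiset.toFinset_card_le _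
      _ = g := (hD x₀ hx₀).1
  -- pigeonhole
  let T : Finset (Multiset G) := (Multiset.powerset (g • hBfin.toFinset.val)).toFinset
  have hT : T.card ≤ 2 ^ (g * g) := by
    calc T.card ≤ Multiset.card (Multiset.powerset (g • hBfin.toFinset.val)) := Multiset.toFinset_card_le _
      _ = 2 ^ (g * hBfin.toFinset.card) := by rw [Multiset.card_powerset, Multiset.card_nsmul]; rfl
      _ ≤ 2 ^ (g * g) := Nat.pow_le_pow_right (by norm_num) (Nat.mul_le_mul_left g hBcard)
  have hmaps : ∀ x ∈ X, ((D x).filter fun v => v ∈ B) ∈ T := by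
    intro x hx
    rw [Multiset.mem_toFinset, Multiset.mem_powerset, Multiset.le_iff_count]
    intro v
    rw [Multiset.count_nsmul]
    by_cases hv : v ∈ B
    · have h1 : Multiset.count v hBfin.toFinset.val = 1 :=
        Multiset.count_eq_one_of_mem hBfin.toFinset.nodup (by
          have : v ∈ hBfin.toFinset := (Set.Finite.mem_toFinset _).2 hv
          exact this)
      rw [h1, mul_one]
      calc Multiset.count v ((D x).filter fun v => v ∈ B) ≤ Multiset.card ((D x).filter fun v => v ∈ B) :=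
            Multiset.count_le_card _ _
        _ ≤ Multiset.card (D x) := Multiset.card_le_card (Multiset.filter_le _ _)
        _ = g := (hD x hx).1
    · rw [Multiset.count_eq_zero_of_notMem (by
        rw [Multiset.mem_filter]
        exact fun h => hv h.2)]
      exact Nat.zero_le _
  obtain ⟨m, -, hm⟩ := Finset.exists_lt_card_fiber_of_mul_lt_card_of_maps_to hmaps (n := g) (by
    rw [hXc]
    calc T.card * g ≤ 2 ^ (g * g) * g := Nat.mul_le_mul_right g hT
      _ < 2 ^ (g * g) * g + 1 := Nat.lt_succ_self _)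
  set X₁ := X.filter fun x => ((D x).filter fun v => v ∈ B) = m with hX₁
  have hX₁m : ∀ x ∈ X₁, x ∈ X ∧ ((D x).filter fun v => v ∈ B) = m := fun x hx => Finset.mem_filter.1 hx
  have hdec : ∀ x ∈ X₁, D x = m + (D x).filter fun v => v ∉ B := by
    intro x hx
    have h1 := Multiset.filter_add_not (fun v => v ∈ B) (D x)
    rw [(hX₁m x hx).2] at h1
    exact h1.symm
  have hcardm : ∀ x ∈ X₁, Multiset.card m + Multiset.card ((D x).filter fun v => v ∉ B) = g := by
    intro x hx
    rw [← Multiset.card_add, ← hdec x hx]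
    exact (hD x (hX₁m x hx).1).1
  -- some fibre point is outside
  have hcm : Multiset.card m ≠ g := by
    intro hcm
    have h1 : ∀ x ∈ X₁, x = m.sum - a + y + c - κ' := by
      intro x hx
      have h2 : (D x).filter (fun v => v ∉ B) = 0 := by
        rw [← Multiset.card_eq_zero]
        have := hcardm x hx
        omega
      have h3 := hdec x hx
      rw [h2, add_zero] at h3
      have h4 := (hD x (hX₁m x hx).1).2.1
      rw [h3] at h4
      rw [h4]
      abel
    have h2 : X₁.card ≤ 1 := Finset.card_le_one.2 fun x hx x' hx' => by rw [h1 x hx, h1 x' hx']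
    omega
  have hE : ∀ x ∈ X₁, x ∈ W 1 ∧ x - (m.sum - a + y + c - κ') ∈ V 1 := by
    intro x hx
    refine ⟨hXW (hX₁m x hx).1, ?_⟩
    have h1 : Multiset.card ((D x).filter fun v => v ∉ B) = 1 := by
      have h2 := hcardm x hx
      have h3 := hout x (hX₁m x hx).1
      omega
    obtain ⟨v, hv⟩ := Multiset.card_eq_one.1 h1
    have h3 := hdec x hx
    rw [hv] at h3
    have h4 := (hD x (hX₁m x hx).1).2.1
    rw [h3, Multiset.sum_add, Multiset.sum_singleton] at h4
    have h5 : x - (m.sum - a + y + c - κ') = v := by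
      have : v = (m.sum + v) - m.sum := by abel
      rw [this, h4]
      abel
    rw [h5]
    have h6 : v ∈ D x := by
      rw [h3]
      exact Multiset.mem_add.2 (Or.inr (Multiset.mem_singleton_self v))
    exact (((hD x (hX₁m x hx).1).2.2 v).1 h6).1
  have h1 := card_le hg hW hV c hc (m.sum - a + y + c - κ') (fun h => by
    obtain ⟨v, hv, hv'⟩ := hmin1 (-(m.sum - a + y + c - κ'))
    apply hv'
    rw [sub_neg_eq_add]
    exact hW.mono hr1 (h v hv)) X₁ hE
  omega

/-- **Combinatorial Torelli theorem.** -/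
theorem main (hg : 2 ≤ g) (ht : ∀ a : G, Continuous fun x : G => x + a) (hneg : Continuous fun x : G => -x)
    (hW : WFam g κ W) (hV : VFam g κ' V) (c : G)
    (hc : ∀ x, x ∈ V (g - 1) ↔ x - c ∈ W (g - 1)) :
    ∃ a, (∀ v ∈ V 1, v - a ∈ W 1) ∨ (∀ v ∈ V 1, a - v ∈ W 1) := by
  classical
  let P : ℕ → Prop := fun r => ∃ a, (∀ v ∈ V 1, v - a ∈ W (r + 1)) ∨ (∀ v ∈ V 1, a - v ∈ W (r + 1))
  have hP : P (g - 2) := by
    refine ⟨c, Or.inl fun v hv => ?_⟩
    have h1 : g - 2 + 1 = g - 1 := by omega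
    rw [h1, ← hc]
    exact hV.mono (by omega) hv
  have hex : ∃ r, P r := ⟨_, hP⟩
  obtain ⟨r, hr⟩ : ∃ r, Nat.find hex = r := ⟨_, rfl⟩
  have hPr : P r := hr ▸ Nat.find_spec hex
  have hrle : r ≤ g - 2 := hr ▸ Nat.find_min' hex hP
  rcases Nat.eq_zero_or_pos r with h0 | h0
  · subst h0
    exact hPr
  · exfalso
    have hnot : ¬ P (r - 1) := Nat.find_min hex (by omega)
    have hr' : r - 1 + 1 = r := by omega
    have hmin1 : ∀ b, ∃ v ∈ V 1, v - b ∉ W r := by
      intro b
      by_contra hcon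
      push Not at hcon
      exact hnot ⟨b, Or.inl (by rw [hr']; exact hcon)⟩
    have hmin2 : ∀ b, ∃ v ∈ V 1, b - v ∉ W r := by
      intro b
      by_contra hcon
      push Not at hcon
      exact hnot ⟨b, Or.inr (by rw [hr']; exact hcon)⟩
    obtain ⟨a, ha | ha⟩ := hPr
    · exact core hg ht hneg hW hV c hc r h0 hrle a ha hmin1 hmin2
    · refine core hg ht hneg hW (hV.neg hneg) (-κ - c) ?_ r h0 hrle (-a) ?_ ?_ ?_
      · intro x
        change -x ∈ V (g - 1) ↔ _
        rw [hc]
        constructor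
        · intro h
          have := hW.refl _ h
          have h2 : κ - (-x - c) = x - (-κ - c) := by abel
          rwa [h2] at this
        · intro h
          have := hW.refl _ h
          have h2 : κ - (x - (-κ - c)) = -x - c := by abel
          rwa [h2] at this
      · intro v hv
        have := ha (-v) hv
        have h2 : v - -a = a - -v := by abel
        rwa [h2]
      · intro b
        obtain ⟨v, hv, hvb⟩ := hmin2 (-b)
        refine ⟨-v, by change - -v ∈ V 1; rwa [neg_neg], ?_⟩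
        have h2 : -v - b = -b - v := by abel
        rwa [h2]
      · intro b
        obtain ⟨v, hv, hvb⟩ := hmin1 (-b)
        refine ⟨-v, by change - -v ∈ V 1; rwa [neg_neg], ?_⟩
        have h2 : b - -v = v - -b := by abel
        rwa [h2]

end K531.Martens
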