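import Groth.Agent.JacVar.K531.DivEq

/-!
# Points of a curve with the same divisor are permutations of each other

`f : X ⟶ S` separated.

* `coinc f x y`: the ideal sheaf on `T` of the coincidence scheme of `x, y ∈ X(T)`.
* `Dist f x t`: the points `x_i ∈ X(T)` are pairwise distinct at `t ∈ T`; `isOpen_dist`, `dist_comp_iff`.
* `exists_perm`: if the divisors of `x` and `y` agree and both families are pairwise distinct at `t`,
  then `y` is a permutation of `x` near `t`.
-/

set_option autoImplicit false
set_option backward.isDefEq.respectTransparency false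
universe u
open CategoryTheory CategoryTheory.Limits AlgebraicGeometry Opposite TopologicalSpace

namespace K531.Perm

open Groth.Agent Groth.Agent.Fga.JacSum Groth.Agent.Picfga Groth.Agent.Picfga.SecGraph K531.DivEq

variable {X S : Scheme.{u}} (f : X ⟶ S) [IsSeparated f]

/-- The ideal sheaf of the locus where two points coincide. -/
noncomputable def coinc {T : Over S} (x y : Pt f T) : T.left.IdealSheafData :=
  (HilbD.secGraph f T x.1 x.2).comap (sec f T y.1 y.2)

theorem comap_coinc_eq_bot_iff {T : Over S} (x y : Pt f T) {T' : Scheme.{u}} (a : T' ⟶ T.left) :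
    (coinc f x y).comap a = ⊥ ↔ a ≫ x.1 = a ≫ y.1 := by
  rw [coinc, ← Scheme.IdealSheafData.comap_comp]
  constructor
  · intro h
    obtain ⟨φ, hφ⟩ := exists_lift_subscheme _ _ h
    obtain ⟨e, -, he⟩ := exists_iso_ker_subscheme (sec f T x.1 x.2)
    have h1 : (φ ≫ e) ≫ sec f T x.1 x.2 = a ≫ sec f T y.1 y.2 := by
      rw [Category.assoc, he]
      exact hφ
    have h2 : φ ≫ e = a := by
      have h3 := congrArg (· ≫ PicF.XTproj f T) h1
      simpa only [Category.assoc, sec_proj, Category.comp_id] using h3
    rw [h2] at h1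
    have h3 := congrArg (· ≫ pullback.fst f T.hom) h1
    simpa only [Category.assoc, sec_fst] using h3
  · intro h
    have h1 : a ≫ sec f T y.1 y.2 = a ≫ sec f T x.1 x.2 := by
      apply pullback.hom_ext
      · rw [Category.assoc, Category.assoc, sec_fst, sec_fst, h]
      · change (a ≫ sec f T y.1 y.2) ≫ PicF.XTproj f T = (a ≫ sec f T x.1 x.2) ≫ PicF.XTproj f T
        rw [Category.assoc, Category.assoc, sec_proj, sec_proj]
    rw [h1, Scheme.IdealSheafData.comap_comp, secGraph_eq_ker, comap_ker_self,
      Scheme.IdealSheafData.comap_bot]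

theorem mem_support_coinc_iff {T : Over S} (x y : Pt f T) (t : T.left) :
    t ∈ (coinc f x y).support ↔
      T.left.fromSpecResidueField t ≫ x.1 = T.left.fromSpecResidueField t ≫ y.1 := by
  rw [← comap_coinc_eq_bot_iff, ← Scheme.IdealSheafData.support_eq_top_iff,
    Scheme.IdealSheafData.support_comap]
  constructor
  · intro h
    ext z
    simp only [Closeds.coe_top, Set.mem_univ, iff_true]
    change T.left.fromSpecResidueField t z ∈ (coinc f x y).support
    rwa [Scheme.fromSpecResidueField_apply]
  · intro h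
    have h1 : IsLocalRing.closedPoint (T.left.residueField t) ∈
        ((coinc f x y).support.preimage (T.left.fromSpecResidueField t).continuous) := by
      rw [h]; trivial
    have h2 : T.left.fromSpecResidueField t (IsLocalRing.closedPoint (T.left.residueField t)) ∈
      (coinc f x y).support := h1
    rwa [Scheme.fromSpecResidueField_apply] at h2

omit [IsSeparated f] in
/-- The points `x_i` are pairwise distinct at `t`. -/
def Dist {T : Over S} {n : ℕ} (x : Fin n → Pt f T) (t : T.left) : Prop :=
  Function.Injective fun i => T.left.fromSpecResidueField t ≫ (x i).1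

theorem isOpen_dist {T : Over S} {n : ℕ} (x : Fin n → Pt f T) : IsOpen {t : T.left | Dist f x t} := by
  have h1 : {t : T.left | Dist f x t} =
      ⋂ (i : Fin n) (j : Fin n) (_ : i ≠ j), ((coinc f (x i) (x j)).support : Set T.left)ᶜ := by
    ext t
    simp only [Set.mem_ofPred_eq, Set.mem_iInter, Set.mem_compl_iff, SetLike.mem_coe,
      mem_support_coinc_iff, Dist]
    exact ⟨fun h i j hij hh => hij (h hh), fun h i j hh => by
      by_contra hij
      exact h i j hij hh⟩
  rw [h1]
  refine isOpen_iInter_of_finite fun i => isOpen_iInter_of_finite fun j =>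
    isOpen_iInter_of_finite fun _ => (coinc f (x i) (x j)).support.isClosed.isOpen_compl

omit [IsSeparated f] in
theorem fsr_comp_eq_iff {T T' : Over S} (g : T' ⟶ T) (x y : Pt f T) (t' : T'.left) :
    T'.left.fromSpecResidueField t' ≫ (x.comp g).1 = T'.left.fromSpecResidueField t' ≫ (y.comp g).1 ↔
      T.left.fromSpecResidueField (g.left t') ≫ x.1 = T.left.fromSpecResidueField (g.left t') ≫ y.1 := by
  have h1 : T'.left.fromSpecResidueField t' ≫ g.left = Spec.map (g.left.residueFieldMap t') ≫
      T.left.fromSpecResidueField (g.left t') := by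
    rw [Scheme.Hom.SpecMap_residueFieldMap_fromSpecResidueField]
  rw [Pt.comp_coe, Pt.comp_coe, reassoc_of% h1, reassoc_of% h1]
  have : Flat (Spec.map (g.left.residueFieldMap t')) := by
    rw [Flat.SpecMap_iff]
    let _ := (g.left.residueFieldMap t').hom.toAlgebra
    exact (inferInstance : Module.Flat (T.left.residueField (g.left t')) (T'.left.residueField t'))
  have : Surjective (Spec.map (g.left.residueFieldMap t')) := by
    constructor
    intro z
    exact ⟨IsLocalRing.closedPoint _, Subsingleton.elim _ _⟩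
  have := Flat.epi_of_flat_of_surjective (Spec.map (g.left.residueFieldMap t'))
  exact (cancel_epi (Spec.map (g.left.residueFieldMap t')))

omit [IsSeparated f] in
theorem dist_comp_iff {T T' : Over S} (g : T' ⟶ T) {n : ℕ} (x : Fin n → Pt f T) (t' : T'.left) :
    Dist f (fun i => (x i).comp g) t' ↔ Dist f x (g.left t') := by
  constructor
  · intro h i j hij
    exact h ((fsr_comp_eq_iff f g _ _ t').mpr hij)
  · intro h i j hij
    exact h ((fsr_comp_eq_iff f g _ _ t').mp hij)

theorem comap_prod {Y Y' : Scheme.{u}} (g : Y' ⟶ Y) {n : ℕ} (I : Fin n → Y.IdealSheafData) :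
    (∏ i, I i).comap g = ∏ i, (I i).comap g := by
  induction n with
  | zero =>
    rw [Fin.prod_univ_zero, Fin.prod_univ_zero, Scheme.IdealSheafData.one_eq_top,
      Scheme.IdealSheafData.one_eq_top, Scheme.IdealSheafData.comap_top]
  | succ m ih =>
    rw [Fin.prod_univ_succ, Fin.prod_univ_succ, Divis.IdealComap.comap_mul, ih]

/-- Near `t`, each `y_i` is one of the `x_j`. -/
theorem exists_index {T : Over S} {n : ℕ} (x : Fin n → Pt f T) (y : Pt f T)
    (h : (sdiv f x).comap (sec f T y.1 y.2) = ⊥) (t : T.left) (hx : Dist f x t) :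
    ∃ (j : Fin n) (U : T.left.Opens), t ∈ U ∧ U.ι ≫ (x j).1 = U.ι ≫ y.1 := by
  have h1 : ∏ j, coinc f (x j) y = ⊥ := by
    rw [← h, sdiv, comap_prod]
    rfl
  have huniq : ∀ j j', t ∈ (coinc f (x j) y).support → t ∈ (coinc f (x j') y).support → j = j' := by
    intro j j' hj hj'
    rw [mem_support_coinc_iff] at hj hj'
    exact hx (hj.trans hj'.symm)
  -- some index occurs
  have hex : ∃ j, t ∈ (coinc f (x j) y).support := by
    by_contra hcon
    push Not at hcon
    have h2 : ∀ (m : ℕ) (I : Fin m → T.left.IdealSheafData), (∀ j, t ∉ (I j).support) →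
        t ∉ (∏ j, I j).support := by
      intro m I hI
      induction m with
      | zero =>
        rw [Fin.prod_univ_zero, Scheme.IdealSheafData.one_eq_top, Scheme.IdealSheafData.support_top]
        exact fun h => h
      | succ m ih =>
        rw [Fin.prod_univ_succ, Scheme.IdealSheafData.support_mul]
        rintro (h | h)
        · exact hI 0 h
        · exact ih (fun j => I j.succ) (fun j => hI j.succ) h
    refine h2 n _ hcon ?_
    rw [h1, Scheme.IdealSheafData.support_bot]
    trivial
  obtain ⟨j, hj⟩ := hex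
  let U : T.left.Opens := ⟨⋂ (j' : Fin n) (_ : j' ≠ j), ((coinc f (x j') y).support : Set T.left)ᶜ,
    isOpen_iInter_of_finite fun j' => isOpen_iInter_of_finite fun _ =>
      (coinc f (x j') y).support.isClosed.isOpen_compl⟩
  refine ⟨j, U, ?_, ?_⟩
  · change t ∈ ⋂ (j' : Fin n) (_ : j' ≠ j), ((coinc f (x j') y).support : Set T.left)ᶜ
    simp only [Set.mem_iInter, Set.mem_compl_iff, SetLike.mem_coe]
    exact fun j' hj' h' => hj' (huniq _ _ h' hj)
  · rw [← comap_coinc_eq_bot_iff]
    have h3 : ∀ j' ≠ j, (coinc f (x j') y).comap U.ι = 1 := by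
      intro j' hj'
      rw [Scheme.IdealSheafData.one_eq_top, ← Scheme.IdealSheafData.support_eq_bot_iff,
        Scheme.IdealSheafData.support_comap]
      rw [eq_bot_iff]
      intro z hz
      have h4 : U.ι z ∈ (coinc f (x j') y).support := hz
      have h5 : (U.ι z) ∈ ⋂ (j' : Fin n) (_ : j' ≠ j), ((coinc f (x j') y).support : Set T.left)ᶜ :=
        z.2
      simp only [Set.mem_iInter, Set.mem_compl_iff, SetLike.mem_coe] at h5
      exact h5 j' hj' h4
    have h4 : ∏ j', (coinc f (x j') y).comap U.ι = ⊥ := by
      rw [← comap_prod, h1, Scheme.IdealSheafData.comap_bot]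
    rwa [Fintype.prod_eq_single j h3] at h4

theorem exists_perm {T : Over S} {n : ℕ} (x y : Fin n → Pt f T) (h : sdiv f x = sdiv f y) (t : T.left)
    (hx : Dist f x t) (hy : Dist f y t) :
    ∃ (U : T.left.Opens) (π : Equiv.Perm (Fin n)), t ∈ U ∧ ∀ i, U.ι ≫ (x (π i)).1 = U.ι ≫ (y i).1 := by
  have H : ∀ i, ∃ (j : Fin n) (U : T.left.Opens), t ∈ U ∧ U.ι ≫ (x j).1 = U.ι ≫ (y i).1 := by
    intro i
    refine exists_index f x (y i) ?_ t hx
    rw [h, sdiv, comap_prod]
    refine Finset.prod_eq_zero (Finset.mem_univ i) ?_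
    rw [secGraph_eq_ker]
    exact comap_ker_self _
  choose j V htV hV using H
  have hfsr : ∀ i, T.left.fromSpecResidueField t ≫ (x (j i)).1 =
      T.left.fromSpecResidueField t ≫ (y i).1 := by
    intro i
    obtain ⟨φ, hφ⟩ : ∃ φ, φ ≫ (V i).ι = T.left.fromSpecResidueField t :=
      ⟨IsOpenImmersion.lift (V i).ι (T.left.fromSpecResidueField t) (by
        rw [Scheme.Opens.range_ι, Scheme.range_fromSpecResidueField]
        exact Set.singleton_subset_iff.mpr (htV i)), IsOpenImmersion.lift_fac _ _ _⟩
    rw [← hφ, Category.assoc, Category.assoc, hV i]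
  have hj : Function.Injective j := by
    intro i i' hii
    apply hy
    change T.left.fromSpecResidueField t ≫ (y i).1 = T.left.fromSpecResidueField t ≫ (y i').1
    rw [← hfsr i, ← hfsr i', hii]
  let π : Equiv.Perm (Fin n) := Equiv.ofBijective j (Finite.injective_iff_bijective.mp hj)
  refine ⟨⟨⋂ i, (V i : Set T.left), isOpen_iInter_of_finite fun i => (V i).isOpen⟩, π,
    Set.mem_iInter.mpr htV, fun i => ?_⟩
  have hle : (⟨⋂ i, (V i : Set T.left), isOpen_iInter_of_finite fun i => (V i).isOpen⟩ :
      T.left.Opens) ≤ V i := fun z hz => Set.mem_iInter.mp hz i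
  have h1 := congrArg (T.left.homOfLE hle ≫ ·) (hV i)
  simp only [Scheme.homOfLE_ι_assoc] at h1
  exact h1

end K531.Perm
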