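import Groth.Agent.Fga.JacSum

/-!
# Fibre powers with their universal points

`exists_pow f n`: an `S`-scheme `Z` with `n` points `x_i ∈ X(Z)` representing `T ↦ X(T)^n`, obtained by
iterated fibre products (so `Z ⟶ S` has every property which holds for `𝟙 S` and passes from `a` to
`a ×_S f`).
-/

set_option autoImplicit false
universe u
open CategoryTheory CategoryTheory.Limits AlgebraicGeometry Opposite

namespace K531.Pow

open Groth.Agent.Fga.JacSum

variable {X S : Scheme.{u}} (f : X ⟶ S)

/-- `Z` with the points `x` is the `n`-fold fibre power. -/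
def IsPow {n : ℕ} (Z : Over S) (x : Fin n → Pt f Z) : Prop :=
  ∀ (T : Over S) (y : Fin n → Pt f T), ∃! g : T ⟶ Z, ∀ i, (x i).comp g = y i

theorem exists_pow (n : ℕ) : ∃ (Z : Over S) (x : Fin n → Pt f Z),
    (∀ (W : MorphismProperty Scheme.{u}), W (𝟙 S) →
      (∀ (A : Scheme.{u}) (a : A ⟶ S), W a → W (pullback.fst a f ≫ a)) → W Z.hom) ∧
    IsPow f Z x := by
  induction n with
  | zero =>
    refine ⟨Over.mk (𝟙 S), fun i => i.elim0, fun W h _ => h, fun T y => ?_⟩
    refine ⟨Over.homMk T.hom (Category.comp_id _), fun i => i.elim0, fun g _ => ?_⟩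
    ext1
    exact (Category.comp_id g.left).symm.trans (Over.w g)
  | succ n ih =>
    obtain ⟨Z, x, hW, h⟩ := ih
    let Z' : Over S := Over.mk (pullback.fst Z.hom f ≫ Z.hom)
    let p : Z' ⟶ Z := Over.homMk (pullback.fst Z.hom f) rfl
    let y : Pt f Z' := ⟨pullback.snd Z.hom f, pullback.condition.symm⟩
    have key : ∀ (T : Over S) (z : Fin (n + 1) → Pt f T) (g : T ⟶ Z'),
        (∀ i, ((Fin.snoc (fun j => (x j).comp p) y : Fin (n + 1) → Pt f Z') i).comp g = z i) ↔
          (∀ i : Fin n, (x i).comp (g ≫ p) = z i.castSucc) ∧ y.comp g = z (Fin.last n) := by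
      intro T z g
      rw [Fin.forall_fin_succ']
      refine and_congr (forall_congr' fun i => ?_) ?_
      · rw [Fin.snoc_castSucc]
        have : ((x i).comp p).comp g = (x i).comp (g ≫ p) := Subtype.ext (by simp)
        rw [this]
      · rw [Fin.snoc_last]
    refine ⟨Z', Fin.snoc (fun j => (x j).comp p) y, fun W h1 h2 => h2 _ _ (hW W h1 h2), fun T z => ?_⟩
    obtain ⟨g, hg, hgu⟩ := h T (fun i => z i.castSucc)
    let g' : T ⟶ Z' := Over.homMk (pullback.lift g.left (z (Fin.last n)).1
      ((Over.w g).trans (z (Fin.last n)).2.symm)) (by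
        change pullback.lift _ _ _ ≫ pullback.fst Z.hom f ≫ Z.hom = _
        rw [pullback.lift_fst_assoc, Over.w g])
    have hp : g' ≫ p = g := by
      ext1; exact pullback.lift_fst _ _ _
    have hy : y.comp g' = z (Fin.last n) := Subtype.ext (pullback.lift_snd _ _ _)
    refine ⟨g', (key T z g').mpr ⟨fun i => by rw [hp]; exact hg i, hy⟩, fun g'' hg'' => ?_⟩
    obtain ⟨h1, h2⟩ := (key T z g'').mp hg''
    have h3 : g'' ≫ p = g := hgu _ h1
    ext1
    apply pullback.hom_ext
    · change (g'' ≫ p).left = (g' ≫ p).left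
      rw [h3, hp]
    · change (y.comp g'').1 = (y.comp g').1
      rw [h2, hy]

end K531.Pow
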