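import Groth.Agent.JacVar.K531.Perm
import Groth.Agent.JacVar.K531.GoodHH
import Groth.Agent.JacVar.K531.Pow
import Groth.Agent.Sga7.H732.Abel

/-!
# Families of points of a curve with the same class

* `exists_of_prod_acl_eq`: `∏ acl (x i) = ∏ acl (y i)` gives `O(-∑ x_i) = O(-∑ y_i)` up to a class on the base.
* `sumHom φ x = ∏ φ(x_i)`, `comp_sumHom`.
* `sumHom_eq`: if the classes agree, `O(∑ x_i)` has `h⁰ = 1`, `h¹ = 0` on all fibres and both families are
  fibrewise pairwise distinct, then `∏ φ(x_i) = ∏ φ(y_i)` for all morphisms `φ` to a commutative group scheme.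
-/

set_option autoImplicit false
set_option backward.isDefEq.respectTransparency false
universe u
open CategoryTheory CategoryTheory.Limits AlgebraicGeometry Opposite TopologicalSpace MonObj
  MonoidalCategory CartesianMonoidalCategory

namespace K531.SumEq

open Groth.Agent
open Groth.Agent.Grpsch Groth.Agent.Grpsch.PicGrp Groth.Agent.Fga.RigGrp Groth.Agent.Fga.JacSum
open Groth.Agent.Picfga Groth.Agent.Picfga.P1Def Groth.Agent.Picfga.PicGood
open Groth.Agent.Sga7.H732.Abel K531.DivEq K531.Perm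

section cls

variable {X S : Scheme.{u}} (f : X ⟶ S) [SmoothOfRelativeDimension 1 f] [IsSeparated f]
  (σ : S ⟶ X) (hσ : σ ≫ f = 𝟙 S)

theorem prod_acl {T : Over S} {n : ℕ} (x : Fin n → Pt f T) :
    ∏ i, acl f σ hσ (x i) = norm f σ hσ T ((∏ i, gcl f (x i))⁻¹ * gcl f (Pt.ofSection hσ T) ^ n) := by
  unfold acl
  rw [← map_prod, Finset.prod_mul_distrib, Finset.prod_const, Finset.card_univ, Fintype.card_fin,
    Finset.prod_inv_distrib]

omit [SmoothOfRelativeDimension 1 f] [IsSeparated f] in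
theorem exists_of_norm_eq {T : Over S} {c c' : Pic (PicF.XT f T)}
    (h : norm f σ hσ T c = norm f σ hσ T c') :
    ∃ a : Pic T.left, c = c' * pull (PicF.XTproj f T) a := by
  rw [norm_apply, norm_apply] at h
  refine ⟨pull (PicF.secT f σ hσ T) c / pull (PicF.secT f σ hσ T) c', ?_⟩
  rw [map_div, mul_div_assoc']
  exact eq_div_of_mul_eq' (div_eq_div_iff_mul_eq_mul.mp h)

theorem exists_of_prod_acl_eq {T : Over S} {n : ℕ} (x y : Fin n → Pt f T)
    (h : ∏ i, acl f σ hσ (x i) = ∏ i, acl f σ hσ (y i)) :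
    ∃ c : Pic T.left, ∏ i, gcl f (x i) = (∏ i, gcl f (y i)) * pull (PicF.XTproj f T) c := by
  rw [prod_acl, prod_acl] at h
  obtain ⟨a, ha⟩ := exists_of_norm_eq f σ hσ h
  refine ⟨a⁻¹, ?_⟩
  rw [mul_right_comm, mul_left_inj] at ha
  rw [map_inv, ← inv_inj, ha, mul_inv, inv_inv]

end cls

section hom

/-- Two morphisms which agree locally on the source agree. -/
theorem eq_of_local {S : Scheme.{u}} {T A : Over S} (a b : T ⟶ A)
    (h : ∀ t : T.left, ∃ (T' : Over S) (g : T' ⟶ T), IsOpenImmersion g.left ∧ t ∈ Set.range g.left ∧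
      g ≫ a = g ≫ b) : a = b := by
  apply OverRep.hom_ext_local
  intro t
  obtain ⟨T', g, hg, htg, hab⟩ := h t
  refine ⟨g.left.opensRange, htg, ?_⟩
  obtain ⟨c, hc⟩ := RigSheaf.exists_factor g (OverRep.res T g.left.opensRange) (by
    rintro _ ⟨z, rfl⟩
    exact z.2)
  rw [← hc, Category.assoc, Category.assoc, hab]

variable {k : Type u} [Field k] {C : Scheme.{u}} {f : C ⟶ Spec (CommRingCat.of k)}
  {A : Over (Spec (CommRingCat.of k))} [GrpObj A] [IsCommMonObj A] (φ : Over.mk f ⟶ A)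

/-- `∏ φ(x_i)` -/
noncomputable def sumHom {T : Over (Spec (CommRingCat.of k))} {n : ℕ} (x : Fin n → Pt f T) : T ⟶ A :=
  ∏ i, (ptHom (x i) ≫ φ)

theorem comp_prod {C : Type*} [Category* C] [CartesianMonoidalCategory C] [BraidedCategory C]
    {M : C} [GrpObj M] [IsCommMonObj M] {X Y : C} (g : X ⟶ Y) {n : ℕ} (h : Fin n → (Y ⟶ M)) :
    g ≫ ∏ i, h i = ∏ i, (g ≫ h i) := by
  induction n with
  | zero =>
    rw [Fin.prod_univ_zero, Fin.prod_univ_zero, comp_one]
  | succ n ih =>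
    rw [Fin.prod_univ_succ, Fin.prod_univ_succ, comp_mul, ih]

theorem comp_ptHom {T T' : Over (Spec (CommRingCat.of k))} (g : T' ⟶ T) (x : Pt f T) :
    g ≫ ptHom x = ptHom (x.comp g) := rfl

theorem comp_sumHom {T T' : Over (Spec (CommRingCat.of k))} (g : T' ⟶ T) {n : ℕ} (x : Fin n → Pt f T) :
    g ≫ sumHom φ x = sumHom φ (fun i => (x i).comp g) := by
  unfold sumHom
  rw [comp_prod]
  rfl

variable [SmoothOfRelativeDimension 1 f] [IsSeparated f] [Surjective f]

theorem sumHom_eq (P : P1Data f) {T : Over (Spec (CommRingCat.of k))} {n : ℕ} (x y : Fin n → Pt f T)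
    (c : Pic T.left) (h : ∏ i, gcl f (x i) = (∏ i, gcl f (y i)) * pull (PicF.XTproj f T) c)
    (hg : ∀ (t : T.left) (N : (PicF.XT f T).Modules) (hN : PicF.IsInvertible N),
      mk N hN = (∏ i, gcl f (x i))⁻¹ → Good P T N t)
    (hx : ∀ t, Dist f x t) (hy : ∀ t, Dist f y t) : sumHom φ x = sumHom φ y := by
  apply eq_of_local
  intro t
  obtain ⟨N, hN, hNc⟩ := exists_mk (∏ i, gcl f (x i))⁻¹
  obtain ⟨T', g, hgo, ⟨t', rfl⟩, hs⟩ := exists_sdiv_eq P x y c h t N hN hNc.symm (hg t N hN hNc.symm)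
  obtain ⟨U, π, htU, hU⟩ := exists_perm f (fun i => (x i).comp g) (fun i => (y i).comp g) hs t'
    ((dist_comp_iff f g x t').mpr (hx _)) ((dist_comp_iff f g y t').mpr (hy _))
  refine ⟨Over.mk (U.ι ≫ T'.hom), OverRep.res T' U ≫ g, ?_, ?_, ?_⟩
  · exact inferInstanceAs (IsOpenImmersion (U.ι ≫ g.left))
  · exact ⟨(⟨t', htU⟩ : U), rfl⟩
  · rw [comp_sumHom, comp_sumHom]
    unfold sumHom
    rw [← Equiv.prod_comp π (fun i => ptHom ((x i).comp (OverRep.res T' U ≫ g)) ≫ φ)]
    refine Finset.prod_congr rfl fun i _ => ?_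
    congr 2
    apply Subtype.ext
    have h1 := hU i
    rw [Pt.comp_coe, Pt.comp_coe] at h1 ⊢
    simpa [OverRep.res] using h1

end hom

end K531.SumEq
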