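import Groth.Agent.JacVar.K531.SumEq
import Groth.Agent.Sga7.H780.JacSurjG
import Groth.Agent.S0223

/-!
# Surjectivity of the Abel sum map `C^n ⟶ J`

* `chiK_one`: the Euler characteristic of `O` on a base change of the curve is `h⁰(O) - genus`.
* `surjective_sumHom`: the Abel sum map from the `n`-fold power is surjective as soon as `n > -χ(O)`.
-/

set_option autoImplicit false
set_option backward.isDefEq.respectTransparency false
universe u
open CategoryTheory CategoryTheory.Limits AlgebraicGeometry Opposite TopologicalSpace MonObj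
  MonoidalCategory CartesianMonoidalCategory

namespace K531.SurjSum

open Groth.Agent
open Groth.Agent.Grpsch Groth.Agent.Grpsch.PicGrp Groth.Agent.Fga.RigGrp Groth.Agent.Fga.JacSum
open Groth.Agent.Fga.JacSurj Groth.Agent.Fga.JacAlg Groth.Agent.Fga
open Groth.Agent.Picfga Groth.Agent.Picfga.ChiDef
open Groth.Agent.Sga7.H732 Groth.Agent.Sga7.H732.Abel K531.SumEq K531.Pow

variable {k : Type u} [Field k] {C : Scheme.{u}} {f : C ⟶ Spec (CommRingCat.of k)}

theorem chiK_one [IsProper f] {K : Type u} [Field K] (t : Spec (CommRingCat.of K) ⟶ Spec (CommRingCat.of k)) :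
    chiK f t 1 = (letI : C.Over (Spec (CommRingCat.of k)) := ⟨f⟩
      (Module.finrank k (Coh.HH C (Coh.structureModule C) 0) : ℤ) - (Curv2.genus k C : ℤ)) := by
  let _ : C.Over (Spec (CommRingCat.of k)) := ⟨f⟩
  let _ := overK f t
  obtain ⟨φ, rfl⟩ := Spec.map_surjective t
  let _ := φ.hom.toAlgebra
  have : IsProper (C ↘ Spec (CommRingCat.of k)) := ‹IsProper f›
  have hpb : IsPullback (pullback.fst f (Spec.map φ))
      ((PicF.XT f (Over.mk (Spec.map φ))) ↘ Spec (CommRingCat.of K)) (C ↘ Spec (CommRingCat.of k))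
      (Spec.map (CommRingCat.ofHom (algebraMap k K))) := IsPullback.of_hasPullback f (Spec.map φ)
  have h := S0223.finrank_eq k C K (PicF.XT f (Over.mk (Spec.map φ))) (pullback.fst f (Spec.map φ)) hpb
  have h1 : chiK f (Spec.map φ) 1 = FGA.eulerCharLE K (PicF.XT f (Over.mk (Spec.map φ)))
      (Coh.structureModule _) 1 := rfl
  rw [h1]
  have h2 : FGA.eulerCharLE K (PicF.XT f (Over.mk (Spec.map φ))) (Coh.structureModule _) 1 =
      (Module.finrank K (Coh.HH (PicF.XT f (Over.mk (Spec.map φ))) (Coh.structureModule _) 0) : ℤ) -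
      (Module.finrank K (Coh.HH (PicF.XT f (Over.mk (Spec.map φ))) (Coh.structureModule _) 1) : ℤ) := by
    simp [FGA.eulerCharLE, Finset.sum_range_succ]
    ring
  rw [h2, h 0, h 1]
  rfl

variable {σ : Spec (CommRingCat.of k) ⟶ C} {hσ : σ ≫ f = 𝟙 _} {J : Over (Spec (CommRingCat.of k))}
  [GrpObj J] [IsCommMonObj J] {ξ : Pic (PicF.XT f J)} (hJ : Hedge.IsJac f σ hσ J ξ)
  [SmoothOfRelativeDimension 1 f] [IsSeparated f] [QuasiCompact f]
  {α : Over.mk f ⟶ J} (hα : ∀ (T : Over (Spec (CommRingCat.of k))) (z : Pt f T),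
      cls hJ T (ptHom z ≫ α) = acl f σ hσ z)

omit [QuasiCompact f] in
include hα in
theorem cls_sumHom {T : Over (Spec (CommRingCat.of k))} {n : ℕ} (x : Fin n → Pt f T) :
    cls hJ T (sumHom α x) = ∏ i, acl f σ hσ (x i) := by
  unfold sumHom
  rw [map_prod]
  exact Finset.prod_congr rfl fun i _ => hα T (x i)

omit [QuasiCompact f] in
theorem acl_ofSection (T : Over (Spec (CommRingCat.of k))) : acl f σ hσ (Pt.ofSection hσ T) = 1 := by
  rw [acl, inv_mul_cancel, map_one]

include hα in
theorem ptHom_ofSection (T : Over (Spec (CommRingCat.of k))) : ptHom (Pt.ofSection hσ T) ≫ α = 1 := by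
  apply cls_injective hJ
  rw [hα, acl_ofSection, map_one]

include hα in
theorem surjective_sumHom (hX : Curve.IsSmoothProperCurve k C f) [GeometricallyIntegral f] {n : ℕ}
    (hn : ∀ (K : Type u) [Field K] (t : Spec (CommRingCat.of K) ⟶ Spec (CommRingCat.of k)),
      0 < chiK f t 1 + n) {Z : Over (Spec (CommRingCat.of k))} {x : Fin n → Pt f Z} (hZ : IsPow f Z x) :
    Surjective (sumHom α x).left := by
  constructor
  intro p
  have hp : chiAt f J p ξ = chiAt f J p 1 := (deg_iff J ξ).mp hJ.deg p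
  let K := AlgebraicClosure (J.left.residueField p)
  let φ : CommRingCat.of (J.left.residueField p) ⟶ CommRingCat.of K :=
    CommRingCat.ofHom (algebraMap (J.left.residueField p) K)
  let y : Spec (CommRingCat.of K) ⟶ J.left := Spec.map φ ≫ fsr J.left p
  let T := Over.mk (y ≫ J.hom)
  have hc1 : chiK f (y ≫ J.hom) (pull (PicF.XTmap f (ofHom J y)) ξ) = chiK f (y ≫ J.hom) 1 := by
    have h1 := chiPt_comp (JacFib.bcStep f) φ J (fsr J.left p) ξ
    have h2 := chiPt_comp (JacFib.bcStep f) φ J (fsr J.left p) 1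
    rw [chiPt, map_one] at h2
    rw [chiPt] at h1
    rw [h1, h2]
    exact hp
  obtain ⟨z, hz⟩ := Sga7.H780.JacSurjG.exists_points' hX (JacRR.rrStep f hX K (y ≫ J.hom))
    (Pt.ofSection hσ (Over.mk (y ≫ J.hom)))
    (pull (PicF.XTmap f (ofHom J y)) ξ) hc1 n (hn K _)
  have h1 : ofHom J y = sumHom α z := by
    rw [eq_prod hJ hα K (y ≫ J.hom) (fun _ => Pt.ofSection hσ (Over.mk (y ≫ J.hom))) z (ofHom J y) hz]
    unfold sumHom
    refine Finset.prod_congr rfl fun i _ => ?_
    rw [ptHom_ofSection hJ hα, inv_one, _root_.mul_one]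
  obtain ⟨g, hg, -⟩ := hZ (Over.mk (y ≫ J.hom)) z
  have h2 : g ≫ sumHom α x = ofHom J y := by
    rw [comp_sumHom, h1]
    congr 1
    exact funext hg
  let w : Spec (CommRingCat.of K) := (default : PrimeSpectrum K)
  refine ⟨g.left w, ?_⟩
  have h3 : (g ≫ sumHom α x).left w = y w := by rw [h2]; rfl
  rw [Over.comp_left, Scheme.Hom.comp_apply] at h3
  rw [h3]
  change (Spec.map φ ≫ fsr J.left p) w = p
  rw [Scheme.Hom.comp_apply, fsr_apply]

end K531.SurjSum
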