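import Groth.Agent.JacVar.K531.AbelEmb
import Groth.Agent.JacVar.K531.ThetaLoc
import Groth.Agent.Pic13.H959.RedLift
import Groth.Agent.Etcore.CurveTop

/-!
# Torelli's theorem

* `exists_iso_of_subset`: two closed immersions of curves into `J`, the rational points of the first image contained in the
  second: the curves are isomorphic over `J`.
* `torelli`: two curves with Jacobian `J` (as rigidified Jacobians) and the same `W^{g-1}` up to translation.
-/

set_option autoImplicit false
set_option linter.unusedSectionVars false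
universe u
open CategoryTheory CategoryTheory.Limits AlgebraicGeometry MonoidalCategory CartesianMonoidalCategory
open scoped MonObj

namespace K531.Torelli

open Groth.Agent Groth.Agent.Grpsch.PicGrp Groth.Agent.Fga.RigGrp Groth.Agent.Sga7.H732.Hedge
open Groth.Agent.Sga7.H732 K532.UnitBase K532.CurvePic K532.CurvePts K532.Dict Groth.Agent.Fga.JacSum
open Groth.Agent.Fga.JacFactor K532.Setup K532.KPts K532.Wr K532.MultPts K532.Theta1 K532 K531.Fams K531.Martens

section iso

variable {k : Type u} [Field k] [IsAlgClosed k] {C : Scheme.{u}} [C.Over (Spec (CommRingCat.of k))] (hX : IsCurve k C)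
  {C' : Scheme.{u}} [C'.Over (Spec (CommRingCat.of k))] (hX' : IsCurve k C')
  {J : Over (Spec (CommRingCat.of k))} [LocallyOfFiniteType J.hom]
  {a : Over.mk (C ↘ Spec (CommRingCat.of k)) ⟶ J} {b : Over.mk (C' ↘ Spec (CommRingCat.of k)) ⟶ J}

include hX hX' in
theorem exists_iso_of_subset (ha : IsClosedImmersion a.left) (hb : IsClosedImmersion b.left)
    (hsub : ∀ x : KPt k C', ∃ y : KPt k C, pm (C' ↘ Spec (CommRingCat.of k)) x.1 x.2 ≫ b =
      pm (C ↘ Spec (CommRingCat.of k)) y.1 y.2 ≫ a) :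
    ∃ (α : C ≅ C') (hα : α.hom ≫ (C' ↘ Spec (CommRingCat.of k)) = (C ↘ Spec (CommRingCat.of k))),
      Over.homMk (U := Over.mk (C ↘ Spec (CommRingCat.of k))) (V := Over.mk (C' ↘ Spec (CommRingCat.of k)))
        α.hom hα ≫ b = a := by
  have := hX.integral
  have := hX'.integral
  have := hX.proper
  have := hX'.proper
  have := hX.noeth
  have hft : LocallyOfFiniteType (Over.mk (C' ↘ Spec (CommRingCat.of k))).hom :=
    inferInstanceAs (LocallyOfFiniteType (C' ↘ Spec (CommRingCat.of k)))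
  have hr : Set.range b.left ⊆ Set.range a.left := by
    refine closed_subset b.left.isClosedEmbedding.isClosed_range a.left.isClosedEmbedding.isClosed_range fun v hv => ?_
    obtain ⟨x, rfl⟩ := (mem_range_iff b v).1 hv
    obtain ⟨y, hy⟩ := hsub ⟨x.left, Over.w x⟩
    have hy' : x ≫ b = pm (C ↘ Spec (CommRingCat.of k)) y.1 y.2 ≫ a := hy
    rw [hy', pa_comp]
    exact ⟨_, rfl⟩
  have hred : AlgebraicGeometry.IsReduced (Over.mk (C' ↘ Spec (CommRingCat.of k))).left :=
    inferInstanceAs (AlgebraicGeometry.IsReduced C')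
  obtain ⟨α', hα'⟩ : ∃ f : C' ⟶ C, f ≫ a.left = b.left := Pic13.H959.RedLift.exists_lift a.left b.left hr
  have hcl : IsClosedImmersion α' := by
    have : IsClosedImmersion (α' ≫ a.left) := by rw [hα']; exact hb
    exact IsClosedImmersion.of_comp α' a.left
  have hsurj : Surjective α' := by
    constructor
    rw [← Set.range_eq_univ]
    by_contra hne
    have hU : ((Set.range α')ᶜ).Nonempty := by
      rw [Set.nonempty_compl]
      exact hne
    have hfin := (Etcore.CurveTop.compl_finite C hX.dim.le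
      ⟨(Set.range α')ᶜ, α'.isClosedEmbedding.isClosed_range.isOpen_compl⟩ (by
        intro Z hZ
        have h1 : Z = Set.univ := by
          rw [irreducibleComponents_eq_singleton] at hZ
          exact hZ
        rw [h1, Set.inter_univ]
        exact hU)).1
    change ((Set.range α')ᶜᶜ).Finite at hfin
    rw [compl_compl] at hfin
    have hinf : Infinite (KPt k C') := by
      by_contra hcon
      rw [not_infinite_iff_finite] at hcon
      have := Fintype.ofFinite (KPt k C')
      obtain ⟨x, hx⟩ := NonHyp.exists_notMem hX' (Finset.univ : Finset (KPt k C'))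
      exact hx (Finset.mem_univ x)
    have hinj : Function.Injective fun x : KPt k C' => α' (pnt x) := fun x y hxy =>
      KPt.ext' hX' (α'.isClosedEmbedding.injective hxy)
    exact (Set.infinite_of_injective_forall_mem (s := Set.range α') hinj
      (fun x => Set.mem_range_self (pnt x))) hfin
  have hiso : IsIso α' := isIso_of_isClosedImmersion_of_surjective α'
  have hover : α' ≫ (C ↘ Spec (CommRingCat.of k)) = (C' ↘ Spec (CommRingCat.of k)) := by
    have h1 : a.left ≫ J.hom = (C ↘ Spec (CommRingCat.of k)) := Over.w a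
    have h2 : b.left ≫ J.hom = (C' ↘ Spec (CommRingCat.of k)) := Over.w b
    rw [← h1, ← h2, ← Category.assoc, hα']
  refine ⟨(asIso α').symm, ?_, ?_⟩
  · rw [Iso.symm_hom, asIso_inv, IsIso.inv_comp_eq, hover]
  · apply Over.OverMorphism.ext
    change (asIso α').symm.hom ≫ b.left = a.left
    rw [Iso.symm_hom, asIso_inv, IsIso.inv_comp_eq, hα']

end iso

section torelli

variable {k : Type u} [Field k] [IsAlgClosed k]
  {C : Scheme.{u}} [C.Over (Spec (CommRingCat.of k))] (hX : IsCurve k C)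
  [IsProper (C ↘ Spec (CommRingCat.of k))] [SmoothOfRelativeDimension 1 (C ↘ Spec (CommRingCat.of k))]
  {C' : Scheme.{u}} [C'.Over (Spec (CommRingCat.of k))] (hX' : IsCurve k C')
  [IsProper (C' ↘ Spec (CommRingCat.of k))] [SmoothOfRelativeDimension 1 (C' ↘ Spec (CommRingCat.of k))]
  {σ : Spec (CommRingCat.of k) ⟶ C} {hσ : σ ≫ (C ↘ Spec (CommRingCat.of k)) = 𝟙 (Spec (CommRingCat.of k))}
  {σ' : Spec (CommRingCat.of k) ⟶ C'} {hσ' : σ' ≫ (C' ↘ Spec (CommRingCat.of k)) = 𝟙 (Spec (CommRingCat.of k))}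
  {J : Over (Spec (CommRingCat.of k))} [GrpObj J] [IsCommMonObj J] [IsProper J.hom]
  {ξ : Pic (PicF.XT (C ↘ Spec (CommRingCat.of k)) J)} {ξ' : Pic (PicF.XT (C' ↘ Spec (CommRingCat.of k)) J)}
  (h : IsJac (C ↘ Spec (CommRingCat.of k)) σ hσ J ξ) (h' : IsJac (C' ↘ Spec (CommRingCat.of k)) σ' hσ' J ξ')
  {j : Over.mk (C ↘ Spec (CommRingCat.of k)) ⟶ J} (hj : IsAbel h j)
  {j' : Over.mk (C' ↘ Spec (CommRingCat.of k)) ⟶ J} (hj' : IsAbel h' j')

/-- translation is an isomorphism -/
theorem isIso_transl (a : 𝟙_ (Over (Spec (CommRingCat.of k))) ⟶ J) : IsIso (Jac.transl J a).left := by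
  have : IsIso (Jac.transl J a) := ⟨Jac.transl J a⁻¹, transl_transl a, transl_transl' a⟩
  exact inferInstanceAs (IsIso ((Over.forget _).map (Jac.transl J a)))

theorem isIso_inv : IsIso ((𝟙 J)⁻¹ : J ⟶ J).left := by
  have : IsIso ((𝟙 J)⁻¹ : J ⟶ J) := ⟨(𝟙 J)⁻¹, inv_inv', inv_inv'⟩
  exact inferInstanceAs (IsIso ((Over.forget _).map ((𝟙 J)⁻¹ : J ⟶ J)))

include hX hX' hj hj' in
theorem torelli (hGI : GeometricallyIntegral (C ↘ Spec (CommRingCat.of k)))
    (hg : 2 ≤ gen k C) (hgg : gen k C' = gen k C) (c : Pts J)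
    (hc : ∀ x : Pts J, x ∈ Wk j' (gen k C - 1) ↔ x - c ∈ Wk j (gen k C - 1)) :
    ∃ (α : C ≅ C') (hα : α.hom ≫ (C' ↘ Spec (CommRingCat.of k)) = (C ↘ Spec (CommRingCat.of k)))
      (a : 𝟙_ (Over (Spec (CommRingCat.of k))) ⟶ J) (s : ℤ), (s = 1 ∨ s = -1) ∧
      Over.homMk (U := Over.mk (C ↘ Spec (CommRingCat.of k))) (V := Over.mk (C' ↘ Spec (CommRingCat.of k)))
        α.hom hα ≫ j' = j ^ s * (toUnit (Over.mk (C ↘ Spec (CommRingCat.of k))) ≫ a) := by
  obtain ⟨κ, hκ⟩ := exists_kappa hX h hj (by omega)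
  obtain ⟨κ', hκ'⟩ := exists_kappa hX' h' hj' (by omega)
  have hW := wFam hX h hj hGI hg hκ
  have hV := vFam hX' h' hj' (by omega) hκ'
  rw [hgg] at hV
  have hci : IsClosedImmersion j.left := AbelEmb.isClosedImmersion hX h hj (by omega)
  have hci' : IsClosedImmersion j'.left := AbelEmb.isClosedImmersion hX' h' hj' (by omega)
  obtain ⟨a, ha | ha⟩ := Martens.main hg (continuous_add J) (continuous_neg J) hW hV c hc
  · -- translate
    have hiso := isIso_transl a.toMul
    have h1 : IsClosedImmersion (j ≫ Jac.transl J a.toMul).left := by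
      rw [Over.comp_left]
      infer_instance
    obtain ⟨α, hα, hα'⟩ := exists_iso_of_subset hX hX' h1 hci' (fun x => by
      have h2 := ha (Additive.ofMul (pm (C' ↘ Spec (CommRingCat.of k)) x.1 x.2 ≫ j'))
        ((mem_Wk_one hX' h' hj' _).2 ⟨x, rfl⟩)
      obtain ⟨y, hy⟩ := (mem_Wk_one hX h hj _).1 h2
      refine ⟨y, ?_⟩
      rw [← Category.assoc, comp_transl']
      have h3 : (pm (C' ↘ Spec (CommRingCat.of k)) x.1 x.2 ≫ j') * a.toMul⁻¹ =
          pm (C ↘ Spec (CommRingCat.of k)) y.1 y.2 ≫ j := by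
        have := congrArg Additive.toMul hy
        rw [toMul_sub] at this
        rw [← div_eq_mul_inv]
        exact this
      rw [← h3, inv_mul_cancel_right])
    refine ⟨α, hα, a.toMul, 1, Or.inl rfl, ?_⟩
    rw [hα', comp_transl, zpow_one]
  · -- reflected translate
    have hiso := isIso_transl a.toMul
    have hiso' := isIso_inv (J := J)
    have h1 : IsClosedImmersion (j ≫ (𝟙 J)⁻¹ ≫ Jac.transl J a.toMul).left := by
      rw [Over.comp_left, Over.comp_left]
      infer_instance
    have h0 : j ≫ (𝟙 J)⁻¹ ≫ Jac.transl J a.toMul =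
        j⁻¹ * (toUnit (Over.mk (C ↘ Spec (CommRingCat.of k))) ≫ a.toMul) := by
      rw [← Category.assoc, GrpObj.comp_inv, Category.comp_id, comp_transl]
    obtain ⟨α, hα, hα'⟩ := exists_iso_of_subset hX hX' h1 hci' (fun x => by
      have h2 := ha (Additive.ofMul (pm (C' ↘ Spec (CommRingCat.of k)) x.1 x.2 ≫ j'))
        ((mem_Wk_one hX' h' hj' _).2 ⟨x, rfl⟩)
      obtain ⟨y, hy⟩ := (mem_Wk_one hX h hj _).1 h2
      refine ⟨y, ?_⟩
      have h3 : a.toMul * (pm (C' ↘ Spec (CommRingCat.of k)) x.1 x.2 ≫ j')⁻¹ =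
          pm (C ↘ Spec (CommRingCat.of k)) y.1 y.2 ≫ j := by
        have := congrArg Additive.toMul hy
        rw [toMul_sub] at this
        rw [← div_eq_mul_inv]
        exact this
      have h4 : pm (C ↘ Spec (CommRingCat.of k)) y.1 y.2 ≫ j ≫ (𝟙 J)⁻¹ ≫ Jac.transl J a.toMul =
          (pm (C ↘ Spec (CommRingCat.of k)) y.1 y.2 ≫ j)⁻¹ * a.toMul := by
        rw [← Category.assoc, ← Category.assoc, GrpObj.comp_inv, Category.comp_id, comp_transl']
      rw [h4, ← h3, mul_inv_rev, inv_inv, inv_mul_cancel_right])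
    refine ⟨α, hα, a.toMul, -1, Or.inr rfl, ?_⟩
    rw [hα', h0, zpow_neg_one]

end torelli

end K531.Torelli
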